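import Groth.Agent.EtLocCohLib.Excision

/-!
# Etale excision: the comparison of the groups with supports
-/

set_option autoImplicit false
set_option linter.unusedSectionVars false
set_option linter.style.haveILetI false
set_option backward.isDefEq.respectTransparency false
set_option backward.isDefEq.respectTransparency.types false
set_option synthInstance.maxHeartbeats 400000
set_option maxHeartbeats 1000000

universe u

open CategoryTheory CategoryTheory.Limits AlgebraicGeometry Opposite
open Groth.Agent.EtShLib EtSliceLib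

namespace EtLocCohLib

noncomputable section

/-- Global sections. -/
abbrev glob (X : Scheme.{u}) : EtCoh.Ab X ⥤ AddCommGrpCat.{u + 1} :=
  sheafToPresheaf X.smallEtaleTopology AddCommGrpCat.{u + 1} ⋙
    (evaluation X.Etaleᵒᵖ AddCommGrpCat.{u + 1}).obj (op (EtCoh.top X))

instance (X : Scheme.{u}) : (glob X).PreservesZeroMorphisms where
  map_zero _ _ := rfl

section Supp

variable {X U : Scheme.{u}} (j : U ⟶ X) [IsOpenImmersion j] (G : EtCoh.Ab X)

/-- The inclusion of sections with supports. -/
abbrev suppι : (EtDual.gammaSupp j).obj G ⟶ (glob X).obj G :=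
  (glob X).map (kernel.ι (EtDual.unitApp j G))

instance : Mono (suppι j G) := by
  exact Fork.IsLimit.mono (KernelFork.mapIsLimit _ (kernelIsKernel (EtDual.unitApp j G)) (glob X))

theorem suppι_natural {G' : EtCoh.Ab X} (φ : G ⟶ G') :
    (EtDual.gammaSupp j).map φ ≫ suppι j G' = suppι j G ≫ (glob X).map φ :=
  (((glob X).map_comp _ _).symm.trans (congrArg (glob X).map (kernel.lift_ι _ _ _))).trans ((glob X).map_comp _ _)

theorem suppι_zero (a : ToType ((EtDual.gammaSupp j).obj G)) :
    G.obj.map (iU j (EtCoh.top X)).op (suppι j G a) = 0 := by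
  rw [← unitApp_app_eq_zero_iff]
  exact congrArg (fun t => t.hom.app (op (EtCoh.top X)) a) (kernel.condition (EtDual.unitApp j G))

theorem exists_suppι_eq (s : ToType (G.obj.obj (op (EtCoh.top X))))
    (hs : G.obj.map (iU j (EtCoh.top X)).op s = 0) : ∃ a, suppι j G a = s := by
  have hl := KernelFork.mapIsLimit _ (kernelIsKernel (EtDual.unitApp j G)) (glob X)
  have hs' := (unitApp_app_eq_zero_iff j G _ s).2 hs
  have h0 : (intHom s : _ ⟶ (glob X).obj G) ≫ (glob X).map (EtDual.unitApp j G) = 0 := by
    refine ulift_int_hom_ext ?_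
    exact ((congrArg ((glob X).map (EtDual.unitApp j G)) (intHom_one s)).trans hs' :)
  obtain ⟨l, hl'⟩ := KernelFork.IsLimit.lift' hl (intHom s) h0
  exact ⟨l ⟨1⟩, (congrArg (fun t => t ⟨1⟩) hl' :).trans (intHom_one s)⟩

end Supp

section Cmp

variable {X X' U U' : Scheme.{u}} (f : X' ⟶ X) [AlgebraicGeometry.Etale f] (j : U ⟶ X) [IsOpenImmersion j]
  (j' : U' ⟶ X') [IsOpenImmersion j']

/-- Restriction of global sections along an etale morphism. -/
def globRes : glob X ⟶ EtCoh.pull f ⋙ glob X' :=
  haveI := jCont f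
  haveI : IsIso (restrTheta f) := isIso_restrTheta f
  ({ app := fun G => G.obj.map (pTop f).op
     naturality := fun G G' φ => (φ.hom.naturality (pTop f).op).symm } :
      glob X ⟶ EtShriek.restrAlong f ⋙ glob X') ≫ Functor.whiskerRight (inv (restrTheta f)) (glob X')

variable (G : EtCoh.Ab X)

theorem map_globRes (s : ToType (G.obj.obj (op (EtCoh.top X)))) :
    haveI := jCont f
    ∀ V : X'.Etale, ∀ i : V ⟶ EtCoh.top X', ((restrTheta f).app G).hom.app (op V)
      (((EtCoh.pull f).obj G).obj.map i.op ((globRes f).app G s)) =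
      G.obj.map ((EtShriek.compEtale f).map i).op (G.obj.map (pTop f).op s) := by
  intro V i
  haveI := jCont f
  haveI : IsIso (restrTheta f) := isIso_restrTheta f
  rw [NatTrans.naturality_apply]
  show G.obj.map ((EtShriek.compEtale f).map i).op (((inv (restrTheta f)).app G ≫ (restrTheta f).app G).hom.app
    (op (EtCoh.top X')) (G.obj.map (pTop f).op s)) = _
  rw [← NatTrans.comp_app, IsIso.inv_hom_id]
  rfl

variable (hU' : Set.range j'.base = f.base ⁻¹' Set.range j.base)

include hU' in
theorem globRes_supp (a : ToType ((EtDual.gammaSupp j).obj G)) :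
    ((EtCoh.pull f).obj G).obj.map (iU j' (EtCoh.top X')).op ((globRes f).app G (suppι j G a)) = 0 := by
  haveI := jCont f
  haveI : IsIso (restrTheta f) := isIso_restrTheta f
  haveI : IsIso (((restrTheta f).app G).hom.app (op ((EtShriek.compEtale j').obj ((EtCoh.bc j').obj (EtCoh.top X'))))) :=
    inferInstanceAs (IsIso (((sheafToPresheaf _ _).map ((restrTheta f).app G)).app _))
  apply (ConcreteCategory.bijective_of_isIso (((restrTheta f).app G).hom.app
    (op ((EtShriek.compEtale j').obj ((EtCoh.bc j').obj (EtCoh.top X')))))).1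
  rw [map_globRes, map_zero (((restrTheta f).app G).hom.app
    (op ((EtShriek.compEtale j').obj ((EtCoh.bc j').obj (EtCoh.top X'))))).hom,
    ← ConcreteCategory.comp_apply, ← Functor.map_comp, ← op_comp]
  refine map_eq_zero_of_range j (suppι_zero j G a) _ ?_
  rintro _ ⟨v, rfl⟩
  have hm : (pullback.fst (EtCoh.top X').hom j') v ∈ Set.range j'.base :=
    (range_aObj j').le ⟨v, rfl⟩
  rw [hU'] at hm
  refine ⟨hm.choose, hm.choose_spec.trans ?_⟩
  show f _ = _
  have h := MorphismProperty.Over.w ((EtShriek.compEtale f).map (iU j' (EtCoh.top X')))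
  rw [← h]
  show f _ = (_ ≫ 𝟙 X' ≫ f) v
  rw [Category.id_comp]
  rfl

variable (hZ : Set.BijOn f.base (Set.range j'.base)ᶜ (Set.range j.base)ᶜ)
  (hκ : ∀ x' : ↥X', x' ∉ Set.range j'.base → Function.Surjective (f.residueFieldMap x'))

include hU' in
theorem globRes_cond :
    (suppι j G ≫ (globRes f).app G) ≫ (glob X').map (EtDual.unitApp j' ((EtCoh.pull f).obj G)) = 0 := by
  ext a
  exact (unitApp_app_eq_zero_iff j' _ _ _).2 (globRes_supp f j j' G hU' a)

/-- The comparison. -/
def excMap : (EtDual.gammaSupp j).obj G ⟶ (EtDual.gammaSupp j').obj ((EtCoh.pull f).obj G) :=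
  (KernelFork.IsLimit.lift' (KernelFork.mapIsLimit _ (kernelIsKernel (EtDual.unitApp j' ((EtCoh.pull f).obj G)))
    (glob X')) (suppι j G ≫ (globRes f).app G) (globRes_cond f j j' G hU')).1

theorem excMap_ι : excMap f j j' G hU' ≫ suppι j' ((EtCoh.pull f).obj G) = suppι j G ≫ (globRes f).app G :=
  (KernelFork.IsLimit.lift' (KernelFork.mapIsLimit _ (kernelIsKernel (EtDual.unitApp j' ((EtCoh.pull f).obj G)))
    (glob X')) (suppι j G ≫ (globRes f).app G) (globRes_cond f j j' G hU')).2

include hZ hκ in
theorem bijective_excMap : Function.Bijective (excMap f j j' G hU') := by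
  haveI := jCont f
  haveI : IsIso (restrTheta f) := isIso_restrTheta f
  let θ := fun V : X'.Etale => ((restrTheta f).app G).hom.app (op V)
  haveI : ∀ V, IsIso (θ V) := fun V =>
    inferInstanceAs (IsIso (((sheafToPresheaf _ _).map ((restrTheta f).app G)).app (op V)))
  have hres : ∀ s, θ (EtCoh.top X') ((globRes f).app G s) = G.obj.map (pTop f).op s := by
    intro s
    have h := map_globRes f G s (EtCoh.top X') (𝟙 _)
    simpa using h
  have hι : ∀ a, suppι j' _ (excMap f j j' G hU' a) = (globRes f).app G (suppι j G a) := fun a =>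
    congrArg (fun t => t a) (excMap_ι f j j' G hU')
  have hinjι : Function.Injective (suppι j G) := (AddCommGrpCat.mono_iff_injective _).1 inferInstance
  have hinjι' : Function.Injective (suppι j' ((EtCoh.pull f).obj G)) :=
    (AddCommGrpCat.mono_iff_injective _).1 inferInstance
  refine ⟨fun a b hab => hinjι ?_, fun c => ?_⟩
  · have h := congrArg (suppι j' _) hab
    rw [hι, hι] at h
    have h1 := congrArg (θ (EtCoh.top X')) h
    rw [hres, hres] at h1
    have hd := suppι_zero j G (a - b)
    have hz : G.obj.map ((EtShriek.compEtale f).map (iU j' (EtCoh.top X'))).op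
        (G.obj.map (pTop f).op (suppι j G (a - b))) = 0 := by
      rw [map_sub (suppι j G).hom, map_sub (G.obj.map (pTop f).op).hom, h1, sub_self]
      exact map_zero (G.obj.map ((EtShriek.compEtale f).map (iU j' (EtCoh.top X'))).op).hom
    obtain ⟨s, -, hs⟩ := existsUnique_descend f j j' hU' hZ hκ G _ hz
    have e1 := hs (suppι j G (a - b)) ⟨hd, rfl⟩
    have e2 := hs 0 ⟨map_zero (G.obj.map (iU j (EtCoh.top X)).op).hom, by
      rw [map_zero (G.obj.map (pTop f).op).hom, map_sub (suppι j G).hom, map_sub (G.obj.map (pTop f).op).hom, h1,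
        sub_self]⟩
    rw [← sub_eq_zero, ← map_sub (suppι j G).hom]
    exact e1.trans e2.symm
  · have ht : G.obj.map ((EtShriek.compEtale f).map (iU j' (EtCoh.top X'))).op
        (θ (EtCoh.top X') (suppι j' _ c)) = 0 := by
      refine ((NatTrans.naturality_apply ((restrTheta f).app G).hom (iU j' (EtCoh.top X')).op
        (suppι j' _ c)).symm.trans ?_ :)
      rw [suppι_zero]
      exact map_zero (((restrTheta f).app G).hom.app _).hom
    obtain ⟨s, ⟨hs1, hs2⟩, -⟩ := existsUnique_descend f j j' hU' hZ hκ G _ ht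
    obtain ⟨a, rfl⟩ := exists_suppι_eq j G s hs1
    refine ⟨a, hinjι' ((hι a).trans ((ConcreteCategory.bijective_of_isIso (θ (EtCoh.top X'))).1 ?_))⟩
    rw [hres, hs2]

include hU' hZ hκ in
theorem nonempty_HY_iso (F : EtCoh.Ab X) (r : ℕ) :
    Nonempty ((EtDual.HY j r).obj F ≅ (EtDual.HY j' r).obj ((EtCoh.pull f).obj F)) := by
  obtain ⟨⟨R⟩⟩ := HasInjectiveResolutions.out (C := EtCoh.Ab X) F
  haveI : PreservesFiniteColimits (EtCoh.pull f) :=
    haveI : PreservesColimitsOfSize.{0, 0} (EtCoh.pull f) := (EtCoh.pullPushAdj f).leftAdjoint_preservesColimits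
    PreservesColimitsOfSize.preservesFiniteColimits _
  let R' : InjectiveResolution ((EtCoh.pull f).obj F) :=
    { cocomplex := ((EtCoh.pull f).mapHomologicalComplex _).obj R.cocomplex
      injective := fun n => injective_pull (Scheme.Etale.mk f) (R.cocomplex.X n)
      ι := (HomologicalComplex.singleMapHomologicalComplex _ _ _).inv.app _ ≫
        ((EtCoh.pull f).mapHomologicalComplex _).map R.ι
      quasiIso := inferInstance }
  have hiso : ∀ G, IsIso (excMap f j j' G hU') := fun G =>
    (ConcreteCategory.isIso_iff_bijective _).2 (bijective_excMap f j j' G hU' hZ hκ)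
  have hnat : ∀ {G G' : EtCoh.Ab X} (φ : G ⟶ G'), (EtDual.gammaSupp j).map φ ≫ excMap f j j' G' hU' =
      excMap f j j' G hU' ≫ (EtDual.gammaSupp j').map ((EtCoh.pull f).map φ) := by
    intro G G' φ
    apply (cancel_mono (suppι j' ((EtCoh.pull f).obj G'))).1
    rw [Category.assoc, Category.assoc, excMap_ι, suppι_natural]
    refine ((Category.assoc _ _ _).symm.trans (congrArg (fun t => t ≫ (globRes f).app G') (suppι_natural j G φ))).trans ?_
    refine Eq.trans ?_ ((congrArg (fun t => t ≫ (glob X').map ((EtCoh.pull f).map φ))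
      (excMap_ι f j j' G hU').symm).trans (Category.assoc _ _ _))
    rw [Category.assoc, Category.assoc]
    exact congrArg (fun t => suppι j G ≫ t) ((globRes f).naturality φ)
  let e : ((EtDual.gammaSupp j).mapHomologicalComplex (ComplexShape.up ℕ)).obj R.cocomplex ≅
      ((EtDual.gammaSupp j').mapHomologicalComplex (ComplexShape.up ℕ)).obj R'.cocomplex :=
    HomologicalComplex.Hom.isoOfComponents
      (fun n => @asIso _ _ _ _ (excMap f j j' (R.cocomplex.X n) hU') (hiso _))
      (fun n m _ => (hnat (R.cocomplex.d n m)).symm)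
  exact ⟨R.isoRightDerivedObj (EtDual.gammaSupp j) r ≪≫
    (HomologicalComplex.homologyFunctor _ _ r).mapIso e ≪≫ (R'.isoRightDerivedObj (EtDual.gammaSupp j') r).symm⟩

end Cmp

end

end EtLocCohLib
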