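import Groth.Agent.EtLocCohLib.Local
import Groth.Agent.EtShLib.ConstSheaf
import Groth.Agent.EtShLib.LocConst

/-!
# Depth of finite constant torsion sheaves
-/

set_option autoImplicit false
set_option linter.unusedSectionVars false
set_option linter.style.haveILetI false
set_option backward.isDefEq.respectTransparency false
set_option backward.isDefEq.respectTransparency.types false
set_option synthInstance.maxHeartbeats 400000
set_option maxHeartbeats 1000000

universe u

open CategoryTheory CategoryTheory.Limits AlgebraicGeometry Opposite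
open Groth.Agent.EtShLib EtSliceLib

namespace EtLocCohLib

noncomputable section

/-- The constant sheaf functor. -/
abbrev cK (X : Scheme.{u}) : AddCommGrpCat.{u + 1} ⥤ EtCoh.Ab X :=
  constantSheaf X.smallEtaleTopology AddCommGrpCat.{u + 1}

instance additive_cK (X : Scheme.{u}) : (cK X).Additive :=
  haveI : (EtCore.gsec X).Additive := ⟨fun {_ _ _ _} => rfl⟩
  (EtCore.constAdj X).left_adjoint_additive

variable {X U : Scheme.{u}} (j : U ⟶ X) [IsOpenImmersion j]

theorem depthGE_retract {F G : EtCoh.Ab X} (r : G ⟶ F) (i : F ⟶ G) (h : i ≫ r = 𝟙 F) {n : ℕ}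
    (hG : EtDepth.DepthGE j G n) : EtDepth.DepthGE j F n := fun p hp => by
  rw [IsZero.iff_id_eq_zero, ← CategoryTheory.Functor.map_id, ← h, Functor.map_comp,
    (hG p hp).eq_of_tgt ((EtDual.locCoh j p).map i) 0, zero_comp]

theorem depthGE_of_iso {F G : EtCoh.Ab X} (e : G ≅ F) {n : ℕ} (hG : EtDepth.DepthGE j G n) :
    EtDepth.DepthGE j F n := depthGE_retract j e.hom e.inv e.inv_hom_id hG

theorem depthGE_extension {S : ShortComplex (EtCoh.Ab X)} (hS : S.ShortExact) {n : ℕ}
    (h₁ : EtDepth.DepthGE j S.X₁ n) (h₃ : EtDepth.DepthGE j S.X₃ n) : EtDepth.DepthGE j S.X₂ n :=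
  haveI := preservesFiniteLimits_secSupp j
  fun p hp => Groth.Agent.RDerLib.isZero_X₂ hS p (h₁ p hp) (h₃ p hp)

theorem shortExact_cK {S : ShortComplex AddCommGrpCat.{u + 1}} (hS : S.ShortExact) : (S.map (cK X)).ShortExact := by
  haveI : PreservesFiniteLimits (Functor.const (X.Etale)ᵒᵖ : AddCommGrpCat.{u + 1} ⥤ _) := inferInstance
  haveI : PreservesFiniteLimits (cK X) := comp_preservesFiniteLimits _ _
  haveI : PreservesFiniteColimits (cK X) :=
    haveI : PreservesColimitsOfSize.{0, 0} (cK X) := (EtCore.constAdj X).leftAdjoint_preservesColimits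
    PreservesColimitsOfSize.preservesFiniteColimits _
  exact hS.map_of_exact (cK X)

theorem depthGE_const_lgroup {ℓ : ℕ} (hℓ : ℓ.Prime) {n : ℕ} (hX : EtDepth.DepthGE j (EtCoh.const X (ZMod ℓ)) n) :
    ∀ (N : ℕ) (A : AddCommGrpCat.{u + 1}) (_ : Finite A) (a : ℕ), Nat.card A ≤ N → (∀ x : A, (ℓ ^ a) • x = 0) →
      EtDepth.DepthGE j ((cK X).obj A) n := by
  intro N
  induction N with
  | zero =>
    intro A _ a hA _
    haveI : Nonempty A := ⟨0⟩
    exact absurd Nat.card_pos (by omega : ¬ 0 < Nat.card A)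
  | succ N ih =>
    intro A _ a hA ha
    by_cases hs : Subsingleton A
    · intro p hp
      haveI := preservesFiniteLimits_secSupp j
      exact ((EtDual.secSupp j).rightDerived p).map_isZero
        ((cK X).map_isZero (AddCommGrpCat.isZero_of_subsingleton A))
    · haveI : Nontrivial A := not_subsingleton_iff_nontrivial.1 hs
      obtain ⟨y, hy⟩ := exists_ne (0 : A)
      obtain ⟨k, -, hk⟩ := (Nat.dvd_prime_pow hℓ).1 (addOrderOf_dvd_iff_nsmul_eq_zero.2 (ha y))
      obtain ⟨k', rfl⟩ : ∃ k', k = k' + 1 := ⟨k - 1, by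
        rcases k with _ | k
        · exact absurd (AddMonoid.addOrderOf_eq_one_iff.1 (by simpa using hk)) hy
        · rfl⟩
      let x : A := (ℓ ^ k') • y
      have hx : addOrderOf x = ℓ := by
        rw [addOrderOf_nsmul_of_dvd (pow_ne_zero _ hℓ.pos.ne') (by rw [hk]; exact pow_dvd_pow _ (Nat.le_succ _)), hk,
          pow_succ, Nat.mul_div_cancel_left _ (pow_pos hℓ.pos _)]
      let Z : AddSubgroup A := AddSubgroup.zmultiples x
      let S : ShortComplex AddCommGrpCat.{u + 1} :=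
        ShortComplex.mk (AddCommGrpCat.ofHom Z.subtype) (AddCommGrpCat.ofHom (QuotientAddGroup.mk' Z)) (by
          ext z
          exact (QuotientAddGroup.eq_zero_iff _).2 z.2)
      have hS : S.ShortExact :=
        { exact := (ShortComplex.ab_exact_iff _).2 fun z hz => ⟨⟨z, (QuotientAddGroup.eq_zero_iff _).1 hz⟩, rfl⟩
          mono_f := (AddCommGrpCat.mono_iff_injective _).2 Z.subtype_injective
          epi_g := (AddCommGrpCat.epi_iff_surjective _).2 (QuotientAddGroup.mk'_surjective Z) }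
      have hcard : Nat.card Z = ℓ := by
        show Nat.card (AddSubgroup.zmultiples x) = ℓ
        rw [Nat.card_zmultiples, hx]
      refine depthGE_extension j (shortExact_cK hS) ?_ ?_
      · let e : ZMod ℓ ≃+ Z := (hcard ▸ zmodAddCyclicAddEquiv (G := Z) inferInstance)
        exact depthGE_of_iso j
          ((cK X).mapIso (((AddEquiv.ulift : ULift.{u + 1} (ZMod ℓ) ≃+ ZMod ℓ)).trans e).toAddCommGrpIso) hX
      · refine ih (AddCommGrpCat.of (A ⧸ Z)) inferInstance a ?_ ?_
        · have h := AddSubgroup.card_eq_card_quotient_mul_card_addSubgroup Z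
          rw [hcard] at h
          have h2 := hℓ.two_le
          have : 0 < Nat.card (A ⧸ Z) := Nat.card_pos
          show Nat.card (A ⧸ Z) ≤ N
          nlinarith
        · intro q
          obtain ⟨z, rfl⟩ := QuotientAddGroup.mk'_surjective Z q
          exact (map_nsmul (QuotientAddGroup.mk' Z) _ z).symm.trans ((congrArg _ (ha z)).trans (map_zero _))

theorem eq_zero_of_nsmul_coprime {B : Type*} [AddCommGroup B] {b : B} {a m k : ℕ} {ℓ : ℕ} (hℓ : ℓ.Prime)
    (hm : ¬ ℓ ∣ m) (h1 : (ℓ ^ a * m) • b = 0) (h2 : (ℓ ^ k) • b = 0) : (ℓ ^ a) • b = 0 := by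
  have hg : Nat.gcd (ℓ ^ a * m) (ℓ ^ k) ∣ ℓ ^ a := by
    refine Nat.Coprime.dvd_of_dvd_mul_right ?_ (Nat.gcd_dvd_left _ _)
    exact Nat.Coprime.coprime_dvd_left (Nat.gcd_dvd_right _ _) ((hℓ.coprime_iff_not_dvd.2 hm).pow_left _)
  exact addOrderOf_dvd_iff_nsmul_eq_zero.1
    ((Nat.dvd_gcd (addOrderOf_dvd_iff_nsmul_eq_zero.2 h1) (addOrderOf_dvd_iff_nsmul_eq_zero.2 h2)).trans hg)

theorem map_nsmul_id {C : Type*} [Category C] [Preadditive C] {Y : Scheme.{u}} (K : C ⥤ EtCoh.Ab Y) [K.Additive]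
    (A : C) (m : ℕ) : K.map (m • 𝟙 A) = m • 𝟙 (K.obj A) := by
  rw [Functor.map_nsmul, CategoryTheory.Functor.map_id]

theorem app_nsmul_id {Y : Scheme.{u}} (G : EtCoh.Ab Y) (m : ℕ) (W : Y.Etale) (s : ToType (G.obj.obj (op W))) :
    (m • 𝟙 G).hom.app (op W) s = m • s := by
  show AddCommGrpCat.homAddEquiv (((sheafToPresheaf _ _).map (m • 𝟙 G)).app (op W)) s = _
  rw [Functor.map_nsmul, NatTrans.app_nsmul, map_nsmul, AddMonoidHom.nsmul_apply]
  rfl

theorem depthGE_const_of_isLTorsion {ℓ : ℕ} (hℓ : ℓ.Prime) {n : ℕ}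
    (hX : EtDepth.DepthGE j (EtCoh.const X (ZMod ℓ)) n) (A : AddCommGrpCat.{u + 1}) [Finite A]
    (ht : EtDepth.IsLTorsion ℓ ((cK X).obj A)) : EtDepth.DepthGE j ((cK X).obj A) n := by
  haveI : Nonempty A := ⟨0⟩
  obtain ⟨a, m, hm, hN⟩ := Nat.exists_eq_pow_mul_and_not_dvd (Nat.card_pos (α := A)).ne' ℓ hℓ.ne_one
  let G := (cK X).obj A
  have hA : (Nat.card A) • 𝟙 A = 0 := by
    ext x
    show AddCommGrpCat.homAddEquiv ((Nat.card A) • 𝟙 A) x = 0
    rw [map_nsmul, AddMonoidHom.nsmul_apply]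
    exact card_nsmul_eq_zero' (G := A)
  have hG : (ℓ ^ a * m) • 𝟙 G = 0 := by
    rw [← hN, ← map_nsmul_id, hA, Functor.map_zero]
  have hla : (ℓ ^ a) • 𝟙 G = 0 := by
    refine Sheaf.hom_ext (NatTrans.ext (funext fun W => AddCommGrpCat.ext fun s => ?_))
    refine (app_nsmul_id G (ℓ ^ a) W.unop s).trans ?_
    show (ℓ ^ a) • s = 0
    choose V k hk q hq using fun x => ht W.unop s x
    have hmem : Sieve.ofArrows V k ∈ X.smallEtaleTopology W.unop := by
      rw [Scheme.ofArrows_mem_smallEtaleTopology_iff]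
      exact Set.eq_univ_of_forall fun x => Set.mem_iUnion.2 ⟨x, hk x⟩
    have hsh : (Presieve.ofArrows V k).IsSheafFor (G.obj ⋙ forget AddCommGrpCat.{u + 1}) := by
      rw [Presieve.isSheafFor_iff_generate]
      exact ((isSheaf_iff_isSheaf_of_type _ _).1
        (GrothendieckTopology.HasSheafCompose.isSheaf G.obj G.property)) _ hmem
    refine hsh.isSeparatedFor.ext fun Z r hr => ?_
    cases hr with
    | mk x =>
      show G.obj.map (k x).op ((ℓ ^ a) • s) = G.obj.map (k x).op 0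
      rw [map_nsmul (G.obj.map (k x).op).hom, map_zero (G.obj.map (k x).op).hom]
      refine eq_zero_of_nsmul_coprime hℓ hm ?_ (hq x)
      refine (app_nsmul_id G _ (V x) _).symm.trans ?_
      rw [hG]
      rfl
  have hco : IsCoprime ((ℓ ^ a : ℕ) : ℤ) (m : ℤ) :=
    ((hℓ.coprime_iff_not_dvd.2 hm).pow_left a).isCoprime
  obtain ⟨c, d, hcd⟩ := hco
  let φ : A →+ A := nsmulAddMonoidHom m
  let r : A ⟶ AddCommGrpCat.of φ.range := AddCommGrpCat.ofHom φ.rangeRestrict
  let i : AddCommGrpCat.of φ.range ⟶ A := AddCommGrpCat.ofHom φ.range.subtype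
  have hri : r ≫ i = m • 𝟙 A := by
    ext x
    show φ x = AddCommGrpCat.homAddEquiv (m • 𝟙 A) x
    rw [map_nsmul, AddMonoidHom.nsmul_apply]
    rfl
  refine depthGE_retract j ((cK X).map i) (d • (cK X).map r) ?_
    (depthGE_const_lgroup j hℓ hX (Nat.card φ.range) (AddCommGrpCat.of φ.range) inferInstance a le_rfl fun z => ?_)
  · rw [Preadditive.zsmul_comp, ← Functor.map_comp, hri, map_nsmul_id]
    show d • (m • 𝟙 G) = 𝟙 G
    have h1 : (c * ((ℓ ^ a : ℕ) : ℤ) + d * (m : ℤ)) • 𝟙 G = 𝟙 G := by rw [hcd, one_smul]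
    rw [add_smul, mul_smul, mul_smul, natCast_zsmul, natCast_zsmul, hla, smul_zero, zero_add] at h1
    exact h1
  · obtain ⟨x, hx⟩ := z.2
    refine Subtype.ext ?_
    show (ℓ ^ a) • (z : A) = 0
    rw [← hx]
    show (ℓ ^ a) • (m • x) = 0
    rw [← mul_nsmul', ← hN]
    exact card_nsmul_eq_zero' (G := A)

theorem nonempty_iso_cK_of_isCst {G : EtCoh.Ab X} {A : AddCommGrpCat.{u + 1}} {η : A ⟶ G.obj.obj (op (EtCoh.top X))}
    (h : IsCst G (EtCoh.top X) η) : Nonempty ((cK X).obj A ≅ G) := by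
  let φ : (cK X).obj A ⟶ G := ((EtCore.constAdj X).homEquiv A G).symm η
  have hφ : cstUnit X A ≫ φ.hom.app (op (EtCoh.top X)) = η := by
    refine Eq.trans ?_ (((EtCore.constAdj X).homEquiv A G).apply_symm_apply η)
    rw [Adjunction.homEquiv_unit]
    simp [φ, cstUnit, EtCore.constAdj, constantSheafAdj, constantPresheafAdj]
  haveI : IsIso φ := isIso_of_stalks (A := AddCommGrpCat.{u + 1}) φ fun Ω _ _ ξ => by
    obtain ⟨t⟩ := exists_fib_of_range ξ (U := EtCoh.top X) ⟨ξ.base default, rfl⟩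
    haveI := isCst_cstUnit (X := X) A Ω ξ t
    haveI := h Ω ξ t
    haveI : IsIso ((cstUnit X A ≫ germ ξ ((cK X).obj A) (EtCoh.top X) t) ≫ (stk ξ).map φ) := by
      rw [Category.assoc, germ_natural, ← Category.assoc, hφ]
      infer_instance
    exact IsIso.of_isIso_comp_left (cstUnit X A ≫ germ ξ ((cK X).obj A) (EtCoh.top X) t) ((stk ξ).map φ)
  exact ⟨asIso φ⟩

end

end EtLocCohLib
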