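import Groth.Agent.EtLocCohLib.Local
import Groth.Agent.ConstUnitLib.Unit
import Groth.Agent.EtShLib.ShriekPush
import Groth.Agent.EtSplitLib.Sites

/-!
# Depth one and two of constant sheaves in terms of clopen subsets
-/

set_option autoImplicit false
set_option linter.unusedSectionVars false
set_option linter.style.haveILetI false
set_option backward.isDefEq.respectTransparency false
set_option backward.isDefEq.respectTransparency.types false
set_option synthInstance.maxHeartbeats 400000
set_option maxHeartbeats 1000000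

universe u

open CategoryTheory CategoryTheory.Limits AlgebraicGeometry Opposite
open Groth.Agent.EtShLib EtSliceLib ConstUnitLib

namespace EtLocCohLib

noncomputable section

variable {X : Scheme.{u}}

theorem isIso_unit_const_of_locExt {Z : Scheme.{u}} (g : Z ⟶ X) [EtCoh.BCCont g]
    (hd : ∀ W : X.Etale, DenseRange (pullback.fst W.hom g).base) (M : AddCommGrpCat.{u + 1})
    (hext : ∀ (W : X.Etale) (φ : ↥(pullback W.hom g) → ToType M), IsLocallyConstant φ → ∀ w : W.left,
      ∃ (V : W.left.Opens) (a : ToType M), w ∈ V ∧ ∀ z, (pullback.fst W.hom g).base z ∈ V → φ z = a) :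
    IsIso ((EtCoh.pullPushAdj g).unit.app
      ((constantSheaf X.smallEtaleTopology AddCommGrpCat.{u + 1}).obj M)) := by
  let F := (constantSheaf X.smallEtaleTopology AddCommGrpCat.{u + 1}).obj M
  let T := EtCoh.top X
  have hT : IsTerminal T := EtCore.topIsTerminal X
  let η : M ⟶ F.obj.obj (op T) :=
    (toSheafify X.smallEtaleTopology ((Functor.const (X.Etale)ᵒᵖ).obj M)).app (op T)
  have h : IsCst F T η := isCst_const M
  have hT' : IsTerminal ((EtCoh.bc g).obj T) := EtCore.bcTopIsTerminal g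
  let φ := (EtCoh.pullPushAdj g).unit.app F
  have h' := IsCst.pull (f := g) h
  have key : ∀ {W : X.Etale} (s : ToType (F.obj.obj (op W))) z,
      val (hT := hT') h' (φ.hom.app (op W) s) z = val (hT := hT) h s ((pullback.fst W.hom g).base z) :=
    fun s z => val_unit h hT' s z
  have hinj : ∀ W : X.Etale, Function.Injective (φ.hom.app (op W)) := fun W s t e => by
    refine val_ext (hT := hT) h fun y => ?_
    obtain ⟨z, hz⟩ := (hd W).exists_mem_open
      (((isLocallyConstant_val (hT := hT) h s).prodMk (isLocallyConstant_val (hT := hT) h t)).isOpen_fiber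
        (val (hT := hT) h s y, val (hT := hT) h t y)) ⟨y, rfl⟩
    obtain ⟨e1, e2⟩ := Prod.mk.inj hz
    rw [← e1, ← e2, ← key s z, ← key t z, e]
  refine isIso_of_stalks φ fun Ω _ _ ξ => ?_
  rw [← isIso_iff_of_reflects_iso _ (forget AddCommGrpCat.{u + 1}), isIso_iff_bijective]
  constructor
  · intro p q e
    obtain ⟨W, w, s, rfl⟩ := exists_germ ξ p
    obtain ⟨V, k, v, t, hv, rfl⟩ := exists_germ_below ξ q W w
    subst hv
    have e' : (stk ξ).map φ (germ ξ F W (v.map k) s) = (stk ξ).map φ (germ ξ F V v t) := e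
    rw [← germ_res_apply] at e'
    obtain ⟨P, l, r, hr, he⟩ := (germ_eq_iff ξ V v _ _).1
      ((germ_natural_apply ξ φ V v _).symm.trans (e'.trans (germ_natural_apply ξ φ V v t)))
    have he' : F.obj.map l.op (F.obj.map k.op s) = F.obj.map l.op t :=
      hinj P ((NatTrans.naturality_apply φ.hom l.op _).trans
        (he.trans (NatTrans.naturality_apply φ.hom l.op _).symm))
    show germ ξ F W (v.map k) s = germ ξ F V v t
    rw [← germ_res_apply ξ F k v s, ← hr, ← germ_res_apply ξ F l r (F.obj.map k.op s), he', germ_res_apply]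
  · intro p
    obtain ⟨W, w, t, rfl⟩ := exists_germ ξ p
    obtain ⟨V, a, hwV, ha⟩ := hext W (val (hT := hT') h' t) (isLocallyConstant_val (hT := hT') h' t) w.pt
    let P : X.Etale := MorphismProperty.Over.mk ⊤ (V.ι ≫ W.hom)
      (MorphismProperty.IsStableUnderComposition.comp_mem _ _ (inferInstanceAs (AlgebraicGeometry.Etale V.ι)) W.prop)
    let i : P ⟶ W := MorphismProperty.Over.homMk V.ι rfl
    obtain ⟨l, hl, -⟩ := Scheme.exists_fac_of_etale_of_isSepClosed V.ι w.hom ⟨w.pt, hwV⟩ rfl
    let v : Fib ξ P := Fib.mk l (by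
      show l ≫ V.ι ≫ W.hom = ξ
      rw [← Category.assoc, hl, Fib.w])
    have hv : v.map i = w := Fib.ext ((Fib.map_hom i v).trans hl)
    refine ⟨germ ξ F P v (cSec hT η P a), ?_⟩
    refine (germ_natural_apply ξ φ P v _).trans ?_
    rw [← hv, ← germ_res_apply]
    refine congrArg (fun x => germ ξ ((EtCoh.push g).obj ((EtCoh.pull g).obj F)) P v x) (val_ext (hT := hT') h' fun z => ?_)
    rw [key, val_cSec]
    refine (ha _ ?_).symm.trans (val_res (hT := hT') h' ((EtCoh.bc g).map i) t z).symm
    have hp : ((EtCoh.bc g).map i).left ≫ pullback.fst W.hom g = pullback.fst P.hom g ≫ V.ι := by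
      exact pullback.lift_fst _ _ _
    have hp' := congrArg (fun q => q.base z) hp
    exact (congrArg (· ∈ (V : Set W.left)) hp').mpr ((pullback.fst P.hom g).base z).2


variable {U : Scheme.{u}} (j : U ⟶ X) [IsOpenImmersion j]

/-- The part of an étale `X`-scheme lying over `U`. -/
abbrev oU (W : X.Etale) : Set W.left := W.hom.base ⁻¹' Set.range j.base

/-- Clopen subsets of the part over `U` of étale `X`-schemes extend. -/
def ClopenExt : Prop :=
  ∀ (W : X.Etale) (s : Set W.left), s ⊆ oU j W → IsOpen s → IsOpen (oU j W \ s) →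
    ∃ C : Set W.left, IsClopen C ∧ C ∩ oU j W = s

theorem range_fst_oU (W : X.Etale) : Set.range (pullback.fst W.hom j).base = oU j W :=
  Scheme.Pullback.range_fst W.hom j

theorem depthGE_one_iff (F : EtCoh.Ab X) : EtDepth.DepthGE j F 1 ↔ IsZero ((EtDual.secSupp j).obj F) := by
  haveI := preservesFiniteLimits_secSupp j
  let e := ((EtDual.secSupp j).rightDerivedZeroIsoSelf).app F
  refine ⟨fun h => (h 0 Nat.zero_lt_one).of_iso e.symm, fun h p hp => ?_⟩
  obtain rfl : p = 0 := by omega
  exact h.of_iso e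

theorem depthGE_two_iff (F : EtCoh.Ab X) : EtDepth.DepthGE j F 2 ↔ IsIso (EtDual.unitApp j F) := by
  obtain ⟨e⟩ := nonempty_cokernel_iso j F (InjectiveResolution.of F)
  constructor
  · intro h
    haveI : Mono (EtDual.unitApp j F) := Preadditive.mono_of_kernel_zero
      (((depthGE_one_iff j F).1 fun p hp => h p (by omega)).eq_of_src _ _)
    haveI : Epi (EtDual.unitApp j F) := Preadditive.epi_of_cokernel_zero
      (((h 1 (by omega)).of_iso e).eq_of_tgt _ _)
    exact isIso_of_mono_of_epi _
  · intro h p hp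
    rcases (show p = 0 ∨ p = 1 by omega) with rfl | rfl
    · exact (depthGE_one_iff j F).2 (isZero_kernel_of_mono _) 0 Nat.zero_lt_one
    · exact (isZero_cokernel_of_epi _).of_iso e.symm

/-- The constant sheaf with value `M`. -/
abbrev cst (X : Scheme.{u}) (M : AddCommGrpCat.{u + 1}) : EtCoh.Ab X :=
  (constantSheaf X.smallEtaleTopology AddCommGrpCat.{u + 1}).obj M

section Const

variable (M : AddCommGrpCat.{u + 1})


theorem val_zero {Y : Scheme.{u}} {F : EtCoh.Ab Y} {T : Y.Etale} {hT : IsTerminal T} {η : M ⟶ F.obj.obj (op T)}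
    (h : IsCst F T η) {W : Y.Etale} (y : W.left) : val (hT := hT) h (0 : ToType (F.obj.obj (op W))) y = 0 := by
  have h0 : cSec hT η W (0 : ToType M) = (0 : ToType (F.obj.obj (op W))) := by
    dsimp only [cSec]
    rw [map_zero, map_zero]
  rw [← h0]
  exact val_cSec h 0 y

theorem isZero_secSupp_const_iff [Nontrivial (ToType M)] :
    IsZero ((EtDual.secSupp j).obj (cst X M)) ↔ DenseRange j.base := by
  let T := EtCoh.top X
  have hT : IsTerminal T := EtCore.topIsTerminal X
  let η : M ⟶ (cst X M).obj.obj (op T) :=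
    (toSheafify X.smallEtaleTopology ((Functor.const (X.Etale)ᵒᵖ).obj M)).app (op T)
  have h : IsCst (cst X M) T η := isCst_const M
  rw [isZero_secSupp_iff]
  constructor
  · intro hz
    by_contra hd
    let V : X.Opens := ⟨(closure (Set.range j.base))ᶜ, isClosed_closure.isOpen_compl⟩
    let W : X.Etale := EtSplitLib.openObj T V
    obtain ⟨x, hx⟩ : (V : Set X).Nonempty := by
      rw [Set.nonempty_iff_ne_empty]
      intro he
      exact hd (dense_iff_closure_eq.2 (Set.compl_empty_iff.1 he))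
    haveI : IsEmpty ((EtShriek.compEtale j).obj ((EtCoh.bc j).obj W)).left := ⟨fun z => by
      have hr := (range_fst_oU j W).le ⟨z, rfl⟩
      obtain ⟨v, hv⟩ : (W.hom.base ((pullback.fst W.hom j).base z)) ∈ Set.range j.base := hr
      exact ((pullback.fst W.hom j).base z).2 (subset_closure ⟨v, hv⟩)⟩
    haveI := subsingleton_sect_of_isEmpty (cst X M) ((EtShriek.compEtale j).obj ((EtCoh.bc j).obj W))
    obtain ⟨m, hm⟩ := exists_ne (0 : ToType M)
    refine hm ?_
    rw [← val_cSec (hT := hT) h (W := W) m ⟨x, hx⟩, hz W (cSec hT η W m) (Subsingleton.elim _ _)]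
    exact val_zero M h _
  · intro hd W s hs
    refine val_ext (hT := hT) h fun y => ?_
    obtain ⟨z, hz⟩ := (denseRange_fst hd W).exists_mem_open
      ((isLocallyConstant_val (hT := hT) h s).isOpen_fiber (val (hT := hT) h s y)) ⟨y, rfl⟩
    rw [val_zero M h, ← (show val (hT := hT) h s ((pullback.fst W.hom j).base z) = val (hT := hT) h s y from hz)]
    rw [show (pullback.fst W.hom j).base z = (iU j W).left.base z from rfl, ← val_res, hs]
    exact val_zero M h _

theorem clopenExt_of_isIso [Nontrivial (ToType M)] (hu : IsIso (EtDual.unitApp j (cst X M))) : ClopenExt j := by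
  intro W s hs hs1 hs2
  let T := EtCoh.top X
  have hT : IsTerminal T := EtCore.topIsTerminal X
  let η : M ⟶ (cst X M).obj.obj (op T) :=
    (toSheafify X.smallEtaleTopology ((Functor.const (X.Etale)ᵒᵖ).obj M)).app (op T)
  have h : IsCst (cst X M) T η := isCst_const M
  have hT' : IsTerminal ((EtCoh.bc j).obj T) := EtCore.bcTopIsTerminal j
  have h' := IsCst.pull (f := j) h
  let G := (EtCoh.pull j).obj (cst X M)
  let η' : M ⟶ G.obj.obj (op ((EtCoh.bc j).obj T)) := η ≫ (EtDual.unitApp j (cst X M)).hom.app (op T)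
  let E := (EtCoh.bc j).obj W
  let π : E.left ⟶ W.left := pullback.fst W.hom j
  let a := EtSplitLib.openHom E (π ⁻¹ᵁ ⟨s, hs1⟩)
  let b := EtSplitLib.openHom E (π ⁻¹ᵁ ⟨oU j W \ s, hs2⟩)
  have hra : Set.range a.left.base = π.base ⁻¹' s := Scheme.Opens.range_ι _
  have hrb : Set.range b.left.base = π.base ⁻¹' (oU j W \ s) := Scheme.Opens.range_ι _
  have hπ : ∀ z, π.base z ∈ oU j W := fun z => (range_fst_oU j W).le ⟨z, rfl⟩
  obtain ⟨m, hm⟩ := exists_ne (0 : ToType M)
  haveI : IsOpenImmersion a.left := inferInstanceAs (IsOpenImmersion (π ⁻¹ᵁ ⟨s, hs1⟩).ι)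
  haveI : IsOpenImmersion b.left := inferInstanceAs (IsOpenImmersion (π ⁻¹ᵁ ⟨oU j W \ s, hs2⟩).ι)
  obtain ⟨t, hta, htb⟩ := exists_glue G a b
    (by rw [hra, hrb]; exact Set.disjoint_left.2 fun z h1 h2 => h2.2 h1)
    (by rw [hra, hrb]; exact Set.eq_univ_of_forall fun z => (em (π.base z ∈ s)).imp id fun h => ⟨hπ z, h⟩)
    (cSec hT' η' _ m)
  haveI : IsIso ((EtDual.unitApp j (cst X M)).hom.app (op W)) :=
    inferInstanceAs (IsIso ((sheafToPresheaf _ _ ⋙ (evaluation _ _).obj (op W)).map (EtDual.unitApp j (cst X M))))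
  obtain ⟨s₀, hs₀⟩ :=
    (ConcreteCategory.bijective_of_isIso ((EtDual.unitApp j (cst X M)).hom.app (op W))).2 t
  refine ⟨{y | val (hT := hT) h s₀ y = m}, (isLocallyConstant_val (hT := hT) h s₀).isClopen_fiber m, ?_⟩
  have key : ∀ z : E.left, val (hT := hT) h s₀ (π.base z) = val (hT := hT') h' t z := fun z => by
    rw [← hs₀]
    exact (val_unit h hT' s₀ z).symm
  ext y
  constructor
  · rintro ⟨hy, hyU⟩
    obtain ⟨z, rfl⟩ := (range_fst_oU j W).ge hyU
    by_contra hn
    obtain ⟨w, hw⟩ : z ∈ Set.range b.left.base := hrb.ge ⟨hyU, hn⟩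
    refine hm (hy.symm.trans ((key z).trans ((congrArg (val (hT := hT') h' t) hw.symm).trans
      ((val_res (hT := hT') h' b t w).symm.trans
        ((congrArg (fun x => val (hT := hT') h' x w) htb).trans (val_zero M h' w))))))
  · intro hy
    obtain ⟨z, rfl⟩ := (range_fst_oU j W).ge (hs hy)
    obtain ⟨w, hw⟩ : z ∈ Set.range a.left.base := hra.ge hy
    exact ⟨(key z).trans ((congrArg (val (hT := hT') h' t) hw.symm).trans
      ((val_res (hT := hT') h' a t w).symm.trans
        ((congrArg (fun x => val (hT := hT') h' x w) hta).trans (val_cSec h' m w)))), hs hy⟩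

theorem isIso_unit_of_clopenExt [Finite (ToType M)] (hd : DenseRange j.base) (he : ClopenExt j) :
    IsIso (EtDual.unitApp j (cst X M)) := by
  refine isIso_unit_const_of_locExt j (fun W => denseRange_fst hd W) M fun W φ hφ w => ?_
  let π : pullback W.hom j ⟶ W.left := pullback.fst W.hom j
  have hC : ∀ a, ∃ C : Set W.left, IsClopen C ∧ C ∩ oU j W = π.base '' (φ ⁻¹' {a}) := fun a => by
    refine he W _ ?_ (π.isOpenEmbedding.isOpenMap _ (hφ.isOpen_fiber a)) ?_
    · rw [← range_fst_oU]
      exact Set.image_subset_range _ _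
    · rw [← range_fst_oU, show Set.range (pullback.fst W.hom j).base \ π.base '' (φ ⁻¹' {a}) =
        π.base '' (φ ⁻¹' {a})ᶜ from (Set.image_compl_eq_range_diff_image π.isOpenEmbedding.injective _).symm]
      exact π.isOpenEmbedding.isOpenMap _ (hφ.isClopen_fiber a).1.isOpen_compl
  choose C hC1 hC2 using hC
  have hcov : (⋃ a, C a) = Set.univ := by
    rw [← (isClosed_iUnion_of_finite fun a => (hC1 a).1).closure_eq, ← dense_iff_closure_eq]
    refine Dense.mono ?_ (denseRange_fst hd W)
    rintro _ ⟨z, rfl⟩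
    exact Set.mem_iUnion.2 ⟨φ z, ((hC2 (φ z)).ge ⟨z, rfl, rfl⟩).1⟩
  obtain ⟨a, ha⟩ := Set.mem_iUnion.1 (hcov.ge (Set.mem_univ w))
  refine ⟨⟨C a, (hC1 a).2⟩, a, ha, fun z hz => ?_⟩
  obtain ⟨z', hz', e⟩ := (hC2 a).le ⟨hz, (range_fst_oU j W).le ⟨z, rfl⟩⟩
  rw [← π.isOpenEmbedding.injective e]
  exact hz'

theorem depthGE_one_const_iff [Nontrivial (ToType M)] : EtDepth.DepthGE j (cst X M) 1 ↔ DenseRange j.base :=
  (depthGE_one_iff j _).trans (isZero_secSupp_const_iff j M)

theorem depthGE_two_const_iff [Nontrivial (ToType M)] [Finite (ToType M)] :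
    EtDepth.DepthGE j (cst X M) 2 ↔ DenseRange j.base ∧ ClopenExt j :=
  ⟨fun h => ⟨(depthGE_one_const_iff j M).1 fun p hp => h p (by omega),
      clopenExt_of_isIso j M ((depthGE_two_iff j _).1 h)⟩,
    fun h => (depthGE_two_iff j _).2 (isIso_unit_of_clopenExt j M h.1 h.2)⟩

end Const

end

end EtLocCohLib
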