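import Groth.Agent.EtLocCohLib.Basic
import Groth.Agent.EtSliceLib.Hpull
import Groth.Agent.RDerLib.LeftExact
import Groth.Prelude.Def_EtDepth

/-!
# Etale depth in terms of restriction maps
-/

set_option autoImplicit false
set_option linter.unusedSectionVars false
set_option linter.style.haveILetI false
set_option backward.isDefEq.respectTransparency false
set_option backward.isDefEq.respectTransparency.types false
set_option synthInstance.maxHeartbeats 400000
set_option maxHeartbeats 1000000

universe u

open CategoryTheory CategoryTheory.Limits CategoryTheory.Abelian AlgebraicGeometry Opposite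
open Groth.Agent.EtShLib EtSliceLib

namespace EtLocCohLib

noncomputable section

variable {X U : Scheme.{u}} (j : U ⟶ X) [IsOpenImmersion j] [EtCoh.BCCont j]

/-- The part of `W` over `U`, into `W`. -/
abbrev iU (W : X.Etale) : (EtShriek.compEtale j).obj ((EtCoh.bc j).obj W) ⟶ W :=
  compBc j W

instance mono_iU (W : X.Etale) : Mono (freeMap (iU j W)) := by
  haveI : IsOpenImmersion (pullback.fst W.hom j) := MorphismProperty.pullback_fst _ _ inferInstance
  haveI : Mono (iU j W).left := inferInstanceAs (Mono (pullback.fst W.hom j))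
  exact mono_freeMap _

/-- The free sheaf on `W` relative to its part over `U`. -/
abbrev qU (W : X.Etale) : EtCoh.Ab X := cokernel (freeMap (iU j W))

/-- The relative sequence. -/
abbrev relSeq (W : X.Etale) : ShortComplex (EtCoh.Ab X) :=
  ShortComplex.mk (freeMap (iU j W)) (cokernel.π (freeMap (iU j W))) (cokernel.condition _)

theorem relSeq_shortExact (W : X.Etale) : (relSeq j W).ShortExact :=
  { exact := ShortComplex.exact_of_g_is_cokernel _ (cokernelIsCokernel _) }

theorem unitApp_app_eq_zero_iff (G : EtCoh.Ab X) (W : X.Etale) (s : ToType (G.obj.obj (op W))) :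
    (EtDual.unitApp j G).hom.app (op W) s = 0 ↔ G.obj.map (iU j W).op s = 0 := by
  haveI : AlgebraicGeometry.Etale j := inferInstance
  haveI := jCont j
  let θ : (EtCoh.pull j).obj G ⟶ (EtShriek.restrAlong j).obj G := (restrTheta j).app G
  haveI : IsIso θ := NatIso.isIso_app_of_isIso (restrTheta j) G
  have hu : EtDual.unitApp j G ≫ (EtCoh.push j).map θ = (restrEta j).app G :=
    ((EtCoh.pullPushAdj j).homEquiv_unit (f := θ)).symm.trans (Equiv.apply_symm_apply _ _)
  haveI : IsIso (θ.hom.app (op ((EtCoh.bc j).obj W))) :=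
    inferInstanceAs (IsIso (((sheafToPresheaf _ _).map θ).app (op ((EtCoh.bc j).obj W))))
  have h2 : θ.hom.app (op ((EtCoh.bc j).obj W)) ((EtDual.unitApp j G).hom.app (op W) s) = G.obj.map (iU j W).op s :=
    congrArg (fun t : G ⟶ _ => t.hom.app (op W) s) hu
  exact ⟨fun h => by
      rw [← h2, h]
      exact map_zero (θ.hom.app (op ((EtCoh.bc j).obj W))).hom,
    fun h => (ConcreteCategory.bijective_of_isIso (θ.hom.app (op ((EtCoh.bc j).obj W)))).1
      (h2.trans (h.trans (map_zero (θ.hom.app (op ((EtCoh.bc j).obj W))).hom).symm))⟩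

theorem subsingleton_hom_qU {G : EtCoh.Ab X} (h : IsZero ((EtDual.secSupp j).obj G)) (W : X.Etale)
    (a : qU j W ⟶ G) : a = 0 := by
  haveI : Mono (EtDual.unitApp j G) := Preadditive.mono_of_kernel_zero (h.eq_of_src _ _)
  haveI : Mono ((sheafToPresheaf X.smallEtaleTopology AddCommGrpCat.{u + 1}).map (EtDual.unitApp j G)) := inferInstance
  have hinj : Function.Injective ((EtDual.unitApp j G).hom.app (op W)) :=
    (AddCommGrpCat.mono_iff_injective _).1
      (inferInstanceAs (Mono (((sheafToPresheaf X.smallEtaleTopology AddCommGrpCat.{u + 1}).map (EtDual.unitApp j G)).app (op W))))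
  rw [← cancel_epi (cokernel.π (freeMap (iU j W))), comp_zero]
  refine free_hom_ext W (hinj ?_)
  refine Eq.trans ?_ (map_zero ((EtDual.unitApp j G).hom.app (op W)).hom).symm
  rw [unitApp_app_eq_zero_iff, ← freeMap_app, ← Category.assoc, cokernel.condition, zero_comp]
  rfl

theorem isZero_secSupp_of_hom {G : EtCoh.Ab X} (h : ∀ W : X.Etale, ∀ a : qU j W ⟶ G, a = 0) :
    IsZero ((EtDual.secSupp j).obj G) := by
  haveI : Mono (EtDual.unitApp j G) := by
    haveI : ∀ W : (X.Etale)ᵒᵖ, Mono (((sheafToPresheaf X.smallEtaleTopology AddCommGrpCat.{u + 1}).map (EtDual.unitApp j G)).app W) :=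
      fun W => (AddCommGrpCat.mono_iff_injective _).2 ((injective_iff_map_eq_zero _).2 fun s hs => by
        have hs' := (unitApp_app_eq_zero_iff j G W.unop s).1 hs
        have h0 : freeMap (iU j W.unop) ≫ desc W.unop s = 0 := free_hom_ext _ (by
          rw [freeMap_app, desc_gen]
          exact hs')
        have h1 := cokernel.π_desc (freeMap (iU j W.unop)) (desc W.unop s) h0
        rw [h W.unop (cokernel.desc _ (desc W.unop s) h0), comp_zero] at h1
        rw [← desc_gen W.unop s, ← h1]
        rfl)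
    haveI : Mono ((sheafToPresheaf X.smallEtaleTopology AddCommGrpCat.{u + 1}).map (EtDual.unitApp j G)) :=
      NatTrans.mono_of_mono_app _
    exact (sheafToPresheaf X.smallEtaleTopology AddCommGrpCat.{u + 1}).mono_of_mono_map inferInstance
  exact isZero_kernel_of_mono _

theorem secSupp_map_ι {A B : EtCoh.Ab X} (f : A ⟶ B) :
    (EtDual.secSupp j).map f ≫ kernel.ι (EtDual.unitApp j B) = kernel.ι (EtDual.unitApp j A) ≫ f :=
  kernel.lift_ι _ _ _

theorem preservesFiniteLimits_secSupp : PreservesFiniteLimits (EtDual.secSupp j) := by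
  refine (((Functor.preservesFiniteLimits_tfae (EtDual.secSupp j)).out 0 3 :
    (∀ S : ShortComplex (EtCoh.Ab X), S.ShortExact → (S.map (EtDual.secSupp j)).Exact ∧ Mono ((EtDual.secSupp j).map S.f)) ↔
      PreservesFiniteLimits (EtDual.secSupp j))).1 fun S hS => ?_
  haveI := hS.mono_f
  haveI : PreservesLimitsOfSize.{0, 0} (EtCoh.push j) := (EtCoh.pullPushAdj j).rightAdjoint_preservesLimits
  haveI : Mono ((EtDual.secSupp j).map S.f) := by
    haveI : Mono ((EtDual.secSupp j).map S.f ≫ kernel.ι (EtDual.unitApp j S.X₂)) := by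
      rw [secSupp_map_ι]
      infer_instance
    exact mono_of_mono _ (kernel.ι (EtDual.unitApp j S.X₂))
  haveI : Mono ((EtCoh.pull j).map S.f) := inferInstance
  haveI : PreservesFiniteLimits (EtCoh.push j) := PreservesLimitsOfSize.preservesFiniteLimits _
  haveI : Mono ((EtCoh.push j).map ((EtCoh.pull j).map S.f)) := inferInstance
  have hlift : ∀ {A : EtCoh.Ab X} (a : A ⟶ (EtDual.secSupp j).obj S.X₂), a ≫ (EtDual.secSupp j).map S.g = 0 →
      { l : A ⟶ (EtDual.secSupp j).obj S.X₁ // l ≫ (EtDual.secSupp j).map S.f = a } := fun {A} a ha => by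
    have h0 : (a ≫ kernel.ι (EtDual.unitApp j S.X₂)) ≫ S.g = 0 := by
      rw [Category.assoc, ← secSupp_map_ι, ← Category.assoc, ha, zero_comp]
    let b := hS.exact.lift _ h0
    have hb : b ≫ S.f = a ≫ kernel.ι (EtDual.unitApp j S.X₂) := hS.exact.lift_f _ _
    have hb0 : b ≫ EtDual.unitApp j S.X₁ = 0 := by
      rw [← cancel_mono ((EtCoh.push j).map ((EtCoh.pull j).map S.f)), zero_comp, Category.assoc]
      erw [← (EtCoh.pullPushAdj j).unit.naturality S.f]
      rw [← Category.assoc, Functor.id_map, hb, Category.assoc, kernel.condition, comp_zero]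
    exact ⟨kernel.lift _ b hb0, by
      rw [← cancel_mono (kernel.ι (EtDual.unitApp j S.X₂)), Category.assoc, secSupp_map_ι, kernel.lift_ι_assoc, hb]⟩
  exact ⟨ShortComplex.exact_of_f_is_kernel _ (KernelFork.IsLimit.ofι _ _ (fun a ha => (hlift a ha).1)
    (fun a ha => (hlift a ha).2) (fun a ha b hb => by
      rw [← cancel_mono ((EtDual.secSupp j).map S.f)]
      exact hb.trans (hlift a ha).2.symm)), inferInstance⟩

theorem exists_presentation {F : EtCoh.Ab X} (h : IsZero ((EtDual.secSupp j).obj F)) :
    ∃ (I : EtCoh.Ab X) (i : F ⟶ I), Mono i ∧ Injective I ∧ IsZero ((EtDual.secSupp j).obj I) := by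
  haveI : Mono (EtDual.unitApp j F) := Preadditive.mono_of_kernel_zero (h.eq_of_src _ _)
  let ip := (EnoughInjectives.presentation ((EtCoh.pull j).obj F)).some
  haveI : PreservesLimitsOfSize.{0, 0} (EtCoh.push j) := (EtCoh.pullPushAdj j).rightAdjoint_preservesLimits
  haveI : PreservesFiniteLimits (EtCoh.push j) := PreservesLimitsOfSize.preservesFiniteLimits _
  haveI : (EtCoh.pull j).PreservesMonomorphisms := inferInstance
  haveI : Injective ip.J := ip.injective
  let I := (EtCoh.push j).obj ip.J
  refine ⟨I, EtDual.unitApp j F ≫ (EtCoh.push j).map ip.f, mono_comp _ _,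
    Injective.injective_of_adjoint (EtCoh.pullPushAdj j) _, ?_⟩
  haveI : Mono (EtDual.unitApp j I) := by
    have e := (EtCoh.pullPushAdj j).right_triangle_components ip.J
    haveI : Mono (EtDual.unitApp j I ≫ (EtCoh.push j).map ((EtCoh.pullPushAdj j).counit.app ip.J)) := by
      rw [show EtDual.unitApp j I ≫ _ = 𝟙 _ from e]
      infer_instance
    exact mono_of_mono _ ((EtCoh.push j).map ((EtCoh.pullPushAdj j).counit.app ip.J))
  exact isZero_kernel_of_mono _

theorem depthGE_iff_ext (n : ℕ) : ∀ F : EtCoh.Ab X,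
    EtDepth.DepthGE j F n ↔ ∀ p : ℕ, p < n → ∀ W : X.Etale, Subsingleton (Ext.{u + 1} (qU j W) F p) := by
  haveI := preservesFiniteLimits_secSupp j
  induction n with
  | zero => exact fun F => ⟨fun _ p hp => absurd hp (Nat.not_lt_zero p), fun _ p hp => absurd hp (Nat.not_lt_zero p)⟩
  | succ n ih =>
    intro F
    by_cases h0 : IsZero ((EtDual.secSupp j).obj F)
    swap
    · refine ⟨fun h => absurd ((h 0 (by omega)).of_iso ((EtDual.secSupp j).rightDerivedZeroIsoSelf.app F).symm) h0,
        fun h => absurd (isZero_secSupp_of_hom j fun W a => ?_) h0⟩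
      haveI := h 0 (by omega) W
      exact (Ext.mk₀_bijective _ _).1 (Subsingleton.elim _ _)
    obtain ⟨I, i, hi, hI, hI0⟩ := exists_presentation j h0
    haveI := hi
    haveI := hI
    let S := ShortComplex.mk i (cokernel.π i) (cokernel.condition _)
    have hS : S.ShortExact := { exact := ShortComplex.exact_of_g_is_cokernel _ (cokernelIsCokernel _) }
    have hjI : ∀ q, IsZero (((EtDual.secSupp j).rightDerived q).obj S.X₂) := by
      rintro (_ | q)
      · exact hI0.of_iso ((EtDual.secSupp j).rightDerivedZeroIsoSelf.app _)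
      · exact (EtDual.secSupp j).isZero_rightDerived_obj_injective_succ q _
    have hQI : ∀ (q : ℕ) (W : X.Etale), Subsingleton (Ext.{u + 1} (qU j W) S.X₂ q) := by
      rintro (_ | q) W
      · refine subsingleton_of_forall_eq 0 fun y => ?_
        obtain ⟨a, rfl⟩ := (Ext.mk₀_bijective _ _).2 y
        rw [subsingleton_hom_qU j hI0 W a, Ext.mk₀_zero]
      · exact subsingleton_of_forall_eq 0 fun y => Ext.eq_zero_of_injective _
    constructor
    · intro h p hp W
      rcases p with _ | p
      · refine subsingleton_of_forall_eq 0 fun y => ?_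
        obtain ⟨a, rfl⟩ := (Ext.mk₀_bijective _ _).2 y
        rw [subsingleton_hom_qU j h0 W a, Ext.mk₀_zero]
      · have hC := (ih S.X₃).1 (fun q hq => Groth.Agent.RDerLib.isZero_X₃ hS q (h (q + 1) (by omega)) (hjI q))
          p (by omega) W
        refine subsingleton_of_forall_eq 0 fun y => ?_
        haveI := hQI (p + 1) W
        obtain ⟨c, hc⟩ := Ext.covariant_sequence_exact₁ _ hS (n₁ := p + 1) y (Subsingleton.elim _ _) (n₀ := p) rfl
        haveI := hC
        rw [← hc, Subsingleton.elim c 0, Ext.zero_comp]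
    · intro h p hp
      rcases p with _ | p
      · exact h0.of_iso ((EtDual.secSupp j).rightDerivedZeroIsoSelf.app F)
      · have hC : EtDepth.DepthGE j S.X₃ n := (ih S.X₃).2 fun q hq W => by
          refine subsingleton_of_forall_eq 0 fun c => ?_
          haveI := h (q + 1) (by omega) W
          obtain ⟨w, hw⟩ := Ext.covariant_sequence_exact₃ _ hS c (n₁ := q + 1) rfl
            (@Subsingleton.elim _ (h (q + 1) (by omega) W) _ _)
          haveI := hQI q W
          rw [← hw, Subsingleton.elim w 0, Ext.zero_comp]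
        exact Groth.Agent.RDerLib.isZero_X₁_succ hS p (hjI (p + 1)) ⟨fun a b _ => IsZero.eq_of_src (hC p (by omega)) a b⟩

theorem ext_iff_restr (F : EtCoh.Ab X) (n : ℕ) (W : X.Etale) :
    (∀ p : ℕ, p < n → Subsingleton (Ext.{u + 1} (qU j W) F p)) ↔
      (∀ p : ℕ, p + 1 < n → Function.Bijective fun y : Ext.{u + 1} (free W) F p =>
          (Ext.mk₀ (freeMap (iU j W))).comp y (zero_add p)) ∧
        ∀ p : ℕ, p + 1 = n → Function.Injective fun y : Ext.{u + 1} (free W) F p =>
          (Ext.mk₀ (freeMap (iU j W))).comp y (zero_add p) := by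
  have hS := relSeq_shortExact j W
  constructor
  · intro h
    have hinj : ∀ p : ℕ, p < n → Function.Injective fun y : Ext.{u + 1} (free W) F p =>
        (Ext.mk₀ (freeMap (iU j W))).comp y (zero_add p) := fun p hp =>
      (injective_iff_map_eq_zero ((Ext.mk₀ (freeMap (iU j W))).precomp F (zero_add p))).2 fun y hy => by
        obtain ⟨c, hc⟩ := Ext.contravariant_sequence_exact₂ hS F y hy
        haveI := h p hp
        rw [← hc, Subsingleton.elim (α := Ext.{u + 1} (qU j W) F p) c 0, Ext.comp_zero]
    refine ⟨fun p hp => ⟨hinj p (by omega), fun y => ?_⟩, fun p hp => hinj p (by omega)⟩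
    exact Ext.contravariant_sequence_exact₁ hS F y (n₁ := 1 + p) rfl
      (@Subsingleton.elim _ (h (1 + p) (by omega)) _ _)
  · rintro ⟨hb, hi⟩ p hp
    refine subsingleton_of_forall_eq 0 fun y => ?_
    have h1 : (Ext.mk₀ (relSeq j W).g).comp y (zero_add p) = 0 := by
      have hinj : Function.Injective fun y : Ext.{u + 1} (free W) F p =>
          (Ext.mk₀ (freeMap (iU j W))).comp y (zero_add p) := by
        rcases lt_or_eq_of_le (Nat.succ_le_of_lt hp) with h | h
        · exact (hb p h).1
        · exact hi p h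
      refine hinj ?_
      show (Ext.mk₀ (freeMap (iU j W))).comp ((Ext.mk₀ (relSeq j W).g).comp y (zero_add p)) (zero_add p) =
        (Ext.mk₀ (freeMap (iU j W))).comp 0 (zero_add p)
      rw [Ext.comp_zero, ← Ext.comp_assoc_of_second_deg_zero, Ext.mk₀_comp_mk₀, (relSeq j W).zero, Ext.mk₀_zero,
        Ext.zero_comp]
    rcases p with _ | p
    · obtain ⟨a, rfl⟩ := (Ext.mk₀_bijective _ _).2 y
      rw [Ext.mk₀_comp_mk₀] at h1
      have h2 : cokernel.π (freeMap (iU j W)) ≫ a = 0 := (Ext.mk₀_bijective _ _).1 (by rw [Ext.mk₀_zero]; exact h1)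
      rw [show a = 0 from (cancel_epi (cokernel.π (freeMap (iU j W)))).1 (h2.trans comp_zero.symm), Ext.mk₀_zero]
    · obtain ⟨c, hc⟩ := Ext.contravariant_sequence_exact₃ hS F y h1 (n₀ := p) (by omega)
      obtain ⟨d, rfl⟩ := (hb p (by omega)).2 c
      rw [← hc]
      show hS.extClass.comp ((Ext.mk₀ (relSeq j W).f).comp d (zero_add p)) _ = 0
      rw [← Ext.comp_assoc_of_second_deg_zero, hS.extClass_comp, Ext.zero_comp]

variable {j} in
theorem hpull_iff {X' : Scheme.{u}} (g : X' ⟶ X) [AlgebraicGeometry.Etale g]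
    [PreservesFiniteLimits (EtCoh.pull (pullback.snd j g))] (F : EtCoh.Ab X) (p : ℕ) :
    (Function.Bijective (EtCore.Hpull (pullback.snd j g) ((EtCoh.pull g).obj F) p) ↔
      Function.Bijective fun y : Ext.{u + 1} (free (Scheme.Etale.mk g)) F p =>
        (Ext.mk₀ (freeMap (iU j (Scheme.Etale.mk g)))).comp y (zero_add p)) ∧
    (Function.Injective (EtCore.Hpull (pullback.snd j g) ((EtCoh.pull g).obj F) p) ↔
      Function.Injective fun y : Ext.{u + 1} (free (Scheme.Etale.mk g)) F p =>
        (Ext.mk₀ (freeMap (iU j (Scheme.Etale.mk g)))).comp y (zero_add p)) := by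
  haveI : IsOpenImmersion (pullback.snd j g) := MorphismProperty.pullback_snd _ _ inferInstance
  let V : X.Etale := Scheme.Etale.mk g
  let P : X.Etale := Scheme.Etale.mk (pullback.snd j g ≫ g)
  let φ : P ⟶ V := MorphismProperty.Over.homMk (pullback.snd j g) rfl
  haveI : PreservesFiniteLimits (EtCoh.pull φ.left) := ‹PreservesFiniteLimits (EtCoh.pull (pullback.snd j g))›
  haveI : AlgebraicGeometry.Etale j := inferInstance
  let D := (EtShriek.compEtale j).obj ((EtCoh.bc j).obj V)
  let a : D ⟶ P := MorphismProperty.Over.homMk (pullbackSymmetry g j).hom (by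
    show (pullbackSymmetry g j).hom ≫ pullback.snd j g ≫ g = pullback.snd g j ≫ j
    rw [pullbackSymmetry_hom_comp_snd_assoc, pullback.condition])
  haveI : IsIso a := by
    refine ⟨MorphismProperty.Over.homMk (pullbackSymmetry g j).inv (by
      show (pullbackSymmetry g j).inv ≫ pullback.snd g j ≫ j = pullback.snd j g ≫ g
      rw [pullbackSymmetry_inv_comp_snd_assoc, pullback.condition]), ?_, ?_⟩
    · exact MorphismProperty.Over.Hom.ext (pullbackSymmetry g j).hom_inv_id
    · exact MorphismProperty.Over.Hom.ext (pullbackSymmetry g j).inv_hom_id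
  have ha : a ≫ φ = iU j V := MorphismProperty.Over.Hom.ext (pullbackSymmetry_hom_comp_snd g j)
  have hA : Function.Bijective fun z : Ext.{u + 1} (free P) F p => (Ext.mk₀ (freeMap a)).comp z (zero_add p) := by
    refine Function.bijective_iff_has_inverse.2
      ⟨fun z => (Ext.mk₀ (freeMap (inv a))).comp z (zero_add p), fun z => ?_, fun z => ?_⟩
    · show (Ext.mk₀ (freeMap (inv a))).comp ((Ext.mk₀ (freeMap a)).comp z _) _ = z
      rw [← Ext.comp_assoc_of_second_deg_zero, Ext.mk₀_comp_mk₀, freeMap_comp, IsIso.inv_hom_id,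
        show freeMap (𝟙 P) = 𝟙 (free P) from free_hom_ext P (by rw [freeMap_gen, op_id, CategoryTheory.Functor.map_id]; rfl),
        Ext.mk₀_id_comp]
    · show (Ext.mk₀ (freeMap a)).comp ((Ext.mk₀ (freeMap (inv a))).comp z _) _ = z
      rw [← Ext.comp_assoc_of_second_deg_zero, Ext.mk₀_comp_mk₀, freeMap_comp, IsIso.hom_inv_id,
        show freeMap (𝟙 D) = 𝟙 (free D) from free_hom_ext D (by rw [freeMap_gen, op_id, CategoryTheory.Functor.map_id]; rfl),
        Ext.mk₀_id_comp]
  let r := fun y : Ext.{u + 1} (free V) F p => (Ext.mk₀ (freeMap φ)).comp y (zero_add p)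
  have hr : (fun y : Ext.{u + 1} (free V) F p => (Ext.mk₀ (freeMap (iU j V))).comp y (zero_add p)) =
      (fun z : Ext.{u + 1} (free P) F p => (Ext.mk₀ (freeMap a)).comp z (zero_add p)) ∘ r := by
    funext y
    show _ = (Ext.mk₀ (freeMap a)).comp ((Ext.mk₀ (freeMap φ)).comp y (zero_add p)) (zero_add p)
    rw [← Ext.comp_assoc_of_second_deg_zero, Ext.mk₀_comp_mk₀, freeMap_comp, ha]
  let h := EtCore.Hpull φ.left ((EtCoh.pull g).obj F) p
  let e := (EtCoh.HF P.left p).map (((EtCore.pullComp φ.left g).symm ≪≫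
    EtCore.pullCongr (MorphismProperty.Over.w φ)).app F).hom
  have he : Function.Bijective e := ConcreteCategory.bijective_of_isIso e
  have hk : (fun y => e (h (psi V F p y))) = psi P F p ∘ r := funext fun y => HpullVia_eq_psi φ F p y
  constructor
  · show Function.Bijective h ↔ _
    rw [hr, hA.of_comp_iff', ← (psi_bijective P p F).of_comp_iff' r, ← hk]
    exact ⟨fun hh => he.comp (hh.comp (psi_bijective V p F)), fun hh =>
      ((psi_bijective V p F).1 |> fun _ => (Function.Bijective.of_comp_iff _ (psi_bijective V p F)).1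
        ((he.of_comp_iff' (h ∘ psi V F p)).1 hh))⟩
  · show Function.Injective h ↔ _
    rw [hr, hA.1.of_comp_iff, ← (psi_bijective P p F).1.of_comp_iff r, ← hk]
    exact ⟨fun hh => he.1.comp (hh.comp (psi_bijective V p F).1), fun hh =>
      (Function.Injective.of_comp_iff' _ (psi_bijective V p F)).1 ((he.1.of_comp_iff (h ∘ psi V F p)).1 hh)⟩

end

end EtLocCohLib
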