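import Groth.Agent.EtLocCohLib.Depth

/-!
# Depth is local for the etale topology
-/

set_option autoImplicit false
set_option linter.unusedSectionVars false
set_option linter.style.haveILetI false
set_option backward.isDefEq.respectTransparency false
set_option backward.isDefEq.respectTransparency.types false
set_option synthInstance.maxHeartbeats 400000
set_option maxHeartbeats 1000000

universe u

open CategoryTheory CategoryTheory.Limits AlgebraicGeometry Opposite
open Groth.Agent.EtShLib EtSliceLib

namespace EtLocCohLib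

noncomputable section

variable {X U : Scheme.{u}} (j : U ⟶ X) [IsOpenImmersion j]

theorem range_iU (W : X.Etale) : Set.range (iU j W).left.base = W.hom.base ⁻¹' Set.range j.base :=
  Scheme.Pullback.range_fst W.hom j

theorem map_eq_zero_of_range_subset {G : EtCoh.Ab X} {W D E : X.Etale} (p : D ⟶ W) (q : E ⟶ W)
    [IsOpenImmersion p.left] (h : Set.range q.left.base ⊆ Set.range p.left.base) {s : ToType (G.obj.obj (op W))}
    (hs : G.obj.map p.op s = 0) : G.obj.map q.op s = 0 := by
  let r : E ⟶ D := MorphismProperty.Over.homMk (IsOpenImmersion.lift p.left q.left h) (by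
    rw [← MorphismProperty.Over.w p, IsOpenImmersion.lift_fac_assoc]
    exact MorphismProperty.Over.w q)
  have e : q = r ≫ p := MorphismProperty.Over.Hom.ext (IsOpenImmersion.lift_fac _ _ _).symm
  rw [e, op_comp, Functor.map_comp, ConcreteCategory.comp_apply, hs]
  exact map_zero (G.obj.map r.op).hom

instance isOpenImmersion_iU (W : X.Etale) : IsOpenImmersion (iU j W).left :=
  inferInstanceAs (IsOpenImmersion (pullback.fst W.hom j))

theorem isZero_secSupp_iff (G : EtCoh.Ab X) :
    IsZero ((EtDual.secSupp j).obj G) ↔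
      ∀ (W : X.Etale) (s : ToType (G.obj.obj (op W))), G.obj.map (iU j W).op s = 0 → s = 0 := by
  constructor
  · intro h W s hs
    haveI : Mono (EtDual.unitApp j G) := Preadditive.mono_of_kernel_zero (h.eq_of_src _ _)
    haveI : Mono ((sheafToPresheaf X.smallEtaleTopology AddCommGrpCat.{u + 1}).map (EtDual.unitApp j G)) :=
      inferInstance
    have hinj : Function.Injective ((EtDual.unitApp j G).hom.app (op W)) :=
      (AddCommGrpCat.mono_iff_injective _).1 (inferInstanceAs
        (Mono (((sheafToPresheaf X.smallEtaleTopology AddCommGrpCat.{u + 1}).map (EtDual.unitApp j G)).app (op W))))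
    exact hinj (((unitApp_app_eq_zero_iff j G W s).2 hs).trans
      (map_zero ((EtDual.unitApp j G).hom.app (op W)).hom).symm)
  · intro h
    haveI : Mono ((sheafToPresheaf X.smallEtaleTopology AddCommGrpCat.{u + 1}).map (EtDual.unitApp j G)) := by
      rw [NatTrans.mono_iff_mono_app]
      intro W
      refine (AddCommGrpCat.mono_iff_injective _).2
        ((injective_iff_map_eq_zero ((EtDual.unitApp j G).hom.app W).hom).2 fun s hs => ?_)
      exact h W.unop s ((unitApp_app_eq_zero_iff j G W.unop s).1 hs)
    haveI : Mono (EtDual.unitApp j G) :=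
      (sheafToPresheaf X.smallEtaleTopology AddCommGrpCat.{u + 1}).mono_of_mono_map inferInstance
    exact isZero_kernel_of_mono _

section Pull

variable {X' U' : Scheme.{u}} (g : X' ⟶ X) [AlgebraicGeometry.Etale g] (j' : U' ⟶ X') [IsOpenImmersion j']
  (hU' : Set.range j'.base = g.base ⁻¹' Set.range j.base)

include hU' in
theorem range_compEtale_iU (W : X'.Etale) :
    Set.range ((EtShriek.compEtale g).map (iU j' W)).left.base =
      ((EtShriek.compEtale g).obj W).hom.base ⁻¹' Set.range j.base := by
  have h : Set.range ((EtShriek.compEtale g).map (iU j' W)).left.base = W.hom.base ⁻¹' Set.range j'.base :=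
    range_iU j' W
  rw [h, hU']
  rfl

include hU' in
theorem isZero_secSupp_pull {G : EtCoh.Ab X} (h : IsZero ((EtDual.secSupp j).obj G)) :
    IsZero ((EtDual.secSupp j').obj ((EtCoh.pull g).obj G)) := by
  rw [isZero_secSupp_iff] at h ⊢
  intro W s hs
  haveI := jCont g
  haveI : IsIso ((restrTheta g).app G) := NatIso.isIso_app_of_isIso (restrTheta g) G
  let θ := fun V : X'.Etale => ((restrTheta g).app G).hom.app (op V)
  haveI : ∀ V, IsIso (θ V) := fun V =>
    inferInstanceAs (IsIso (((sheafToPresheaf _ _).map ((restrTheta g).app G)).app (op V)))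
  apply (ConcreteCategory.bijective_of_isIso (θ W)).1
  refine Eq.trans (h _ _ ?_) (map_zero (θ W).hom).symm
  haveI : IsOpenImmersion ((EtShriek.compEtale g).map (iU j' W)).left :=
    inferInstanceAs (IsOpenImmersion (iU j' W).left)
  refine map_eq_zero_of_range_subset ((EtShriek.compEtale g).map (iU j' W)) _ ?_ ?_
  · rw [range_compEtale_iU j g j' hU', range_iU]
  · have e := NatTrans.naturality_apply ((restrTheta g).app G).hom (iU j' W).op s
    refine (Eq.trans e.symm ?_ :)
    rw [hs]
    exact map_zero (((restrTheta g).app G).hom.app _).hom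

end Pull

variable {ι : Type u} {X' U' : ι → Scheme.{u}} (g : ∀ i, X' i ⟶ X) [∀ i, AlgebraicGeometry.Etale (g i)]
  (j' : ∀ i, U' i ⟶ X' i) [∀ i, IsOpenImmersion (j' i)]
  (hU' : ∀ i, Set.range (j' i).base = (g i).base ⁻¹' Set.range j.base)
  (hcov : ∀ x : X, ∃ (i : ι) (y : X' i), (g i).base y = x)

include hU' hcov in
theorem isZero_secSupp_of_local {G : EtCoh.Ab X}
    (h : ∀ i, IsZero ((EtDual.secSupp (j' i)).obj ((EtCoh.pull (g i)).obj G))) :
    IsZero ((EtDual.secSupp j).obj G) := by
  rw [isZero_secSupp_iff]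
  intro W s hs
  let Z : ι → X.Etale := fun i => (EtShriek.compEtale (g i)).obj ((EtCoh.bc (g i)).obj W)
  let π : ∀ i, Z i ⟶ W := fun i => compBc (g i) W
  have hmem : Sieve.ofArrows Z π ∈ X.smallEtaleTopology W := by
    rw [Scheme.ofArrows_mem_smallEtaleTopology_iff]
    refine Set.eq_univ_of_forall fun w => ?_
    obtain ⟨i, y, hy⟩ := hcov (W.hom.base w)
    obtain ⟨z, hz, -⟩ := Scheme.Pullback.exists_preimage_pullback (f := W.hom) (g := g i) w y hy.symm
    exact Set.mem_iUnion.2 ⟨i, z, hz⟩
  have hsh : (Presieve.ofArrows Z π).IsSheafFor (G.obj ⋙ forget AddCommGrpCat.{u + 1}) := by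
    rw [Presieve.isSheafFor_iff_generate]
    exact ((isSheaf_iff_isSheaf_of_type _ _).1
      (GrothendieckTopology.HasSheafCompose.isSheaf G.obj G.property)) _ hmem
  refine hsh.isSeparatedFor.ext fun V q hq => ?_
  cases hq with
  | mk i =>
    refine Eq.trans ?_ (map_zero (G.obj.map (π i).op).hom).symm
    show G.obj.map (π i).op s = 0
    haveI := jCont (g i)
    haveI : IsIso ((restrTheta (g i)).app G) := NatIso.isIso_app_of_isIso (restrTheta (g i)) G
    let θ := fun V : (X' i).Etale => ((restrTheta (g i)).app G).hom.app (op V)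
    haveI : ∀ V, IsIso (θ V) := fun V =>
      inferInstanceAs (IsIso (((sheafToPresheaf _ _).map ((restrTheta (g i)).app G)).app (op V)))
    obtain ⟨t, ht⟩ := (ConcreteCategory.bijective_of_isIso (θ ((EtCoh.bc (g i)).obj W))).2 (G.obj.map (π i).op s)
    rw [← ht]
    suffices t = 0 by rw [this]; exact map_zero (θ ((EtCoh.bc (g i)).obj W)).hom
    refine (isZero_secSupp_iff (j' i) _).1 (h i) _ t ?_
    apply (ConcreteCategory.bijective_of_isIso (θ _)).1
    refine Eq.trans ?_ (map_zero (θ _).hom).symm
    refine (NatTrans.naturality_apply ((restrTheta (g i)).app G).hom (iU (j' i) ((EtCoh.bc (g i)).obj W)).op t).trans ?_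
    refine (congrArg (((EtShriek.restrAlong (g i)).obj G).obj.map (iU (j' i) ((EtCoh.bc (g i)).obj W)).op) ht).trans ?_
    show G.obj.map ((EtShriek.compEtale (g i)).map (iU (j' i) ((EtCoh.bc (g i)).obj W))).op
      (G.obj.map (π i).op s) = 0
    rw [← ConcreteCategory.comp_apply, ← Functor.map_comp, ← op_comp]
    refine map_eq_zero_of_range_subset (iU j W) _ ?_ hs
    rw [range_iU]
    rintro _ ⟨a, rfl⟩
    have ha := (range_compEtale_iU j (g i) (j' i) (hU' i) ((EtCoh.bc (g i)).obj W)).le ⟨a, rfl⟩
    have hw := MorphismProperty.Over.w (π i)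
    rw [← hw] at ha
    exact ha

theorem depthGE_zero (F : EtCoh.Ab X) : EtDepth.DepthGE j F 0 := fun p hp => absurd hp (Nat.not_lt_zero p)

theorem depthGE_succ_iff {F : EtCoh.Ab X} (h0 : IsZero ((EtDual.secSupp j).obj F))
    {S : ShortComplex (EtCoh.Ab X)} (hS : S.ShortExact) (e : S.X₁ = F) [Injective S.X₂]
    (hI : IsZero ((EtDual.secSupp j).obj S.X₂)) (n : ℕ) :
    EtDepth.DepthGE j F (n + 1) ↔ EtDepth.DepthGE j S.X₃ n := by
  subst e
  haveI := preservesFiniteLimits_secSupp j
  have hjI : ∀ q, IsZero (((EtDual.secSupp j).rightDerived q).obj S.X₂) := by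
    rintro (_ | q)
    · exact hI.of_iso ((EtDual.secSupp j).rightDerivedZeroIsoSelf.app _)
    · exact (EtDual.secSupp j).isZero_rightDerived_obj_injective_succ q _
  refine ⟨fun h q hq => Groth.Agent.RDerLib.isZero_X₃ hS q (h (q + 1) (by omega)) (hjI q), fun h p hp => ?_⟩
  rcases p with _ | p
  · exact h0.of_iso ((EtDual.secSupp j).rightDerivedZeroIsoSelf.app _)
  · exact Groth.Agent.RDerLib.isZero_X₁_succ hS p (hjI (p + 1))
      ⟨fun a b _ => IsZero.eq_of_src (h p (by omega)) a b⟩

include hU' hcov in
theorem depthGE_iff_local : ∀ (n : ℕ) (F : EtCoh.Ab X),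
    EtDepth.DepthGE j F n ↔ ∀ i, EtDepth.DepthGE (j' i) ((EtCoh.pull (g i)).obj F) n := by
  intro n
  induction n with
  | zero => exact fun F => ⟨fun _ i => depthGE_zero _ _, fun _ => depthGE_zero _ _⟩
  | succ n ih =>
    intro F
    haveI := preservesFiniteLimits_secSupp j
    haveI : ∀ i, PreservesFiniteLimits (EtDual.secSupp (j' i)) := fun i => preservesFiniteLimits_secSupp (j' i)
    by_cases h0 : IsZero ((EtDual.secSupp j).obj F)
    swap
    · refine ⟨fun h => absurd ((h 0 (by omega)).of_iso ((EtDual.secSupp j).rightDerivedZeroIsoSelf.app F).symm) h0,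
        fun h => absurd (isZero_secSupp_of_local j g j' hU' hcov fun i =>
          (h i 0 (by omega)).of_iso ((EtDual.secSupp (j' i)).rightDerivedZeroIsoSelf.app _).symm) h0⟩
    obtain ⟨I, i₀, hi, hI, hI0⟩ := exists_presentation j h0
    haveI := hi
    haveI := hI
    let S := ShortComplex.mk i₀ (cokernel.π i₀) (cokernel.condition _)
    have hS : S.ShortExact := { exact := ShortComplex.exact_of_g_is_cokernel _ (cokernelIsCokernel _) }
    haveI : Injective S.X₂ := hI
    rw [depthGE_succ_iff j h0 hS rfl hI0, ih]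
    refine forall_congr' fun i => ?_
    haveI : PreservesFiniteColimits (EtCoh.pull (g i)) :=
      haveI : PreservesColimitsOfSize.{0, 0} (EtCoh.pull (g i)) :=
        (EtCoh.pullPushAdj (g i)).leftAdjoint_preservesColimits
      PreservesColimitsOfSize.preservesFiniteColimits _
    haveI : PreservesFiniteLimits (EtCoh.pull (g i)) := EtSliceLib.pullExact (g i)
    haveI : Injective (S.map (EtCoh.pull (g i))).X₂ := injective_pull (Scheme.Etale.mk (g i)) S.X₂
    exact (depthGE_succ_iff (j' i) (isZero_secSupp_pull j (g i) (j' i) (hU' i) h0)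
      (hS.map_of_exact (EtCoh.pull (g i))) rfl (isZero_secSupp_pull j (g i) (j' i) (hU' i) hI0) n).symm

end

end EtLocCohLib
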