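import Groth.Agent.EtSliceLib.MV
import Groth.Agent.EtShLib.RestrPull
import Groth.Prelude.Def_EtDual
import Mathlib.Algebra.Homology.HomologySequence

/-!
# Local cohomology sheaves of an open immersion and higher direct images
-/

set_option autoImplicit false
set_option linter.unusedSectionVars false
set_option linter.style.haveILetI false
set_option backward.isDefEq.respectTransparency false
set_option backward.isDefEq.respectTransparency.types false
set_option synthInstance.maxHeartbeats 400000
set_option maxHeartbeats 1000000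

universe u

open CategoryTheory CategoryTheory.Limits AlgebraicGeometry Opposite
open Groth.Agent.EtShLib EtSliceLib

namespace EtLocCohLib

noncomputable section

variable {X U : Scheme.{u}} (j : U ⟶ X) [IsOpenImmersion j]

theorem epi_unit_injective (I : EtCoh.Ab X) [Injective I] : Epi (EtDual.unitApp j I) := by
  haveI : AlgebraicGeometry.Etale j := inferInstance
  haveI := jCont j
  let θ : (EtCoh.pull j).obj I ⟶ (EtShriek.restrAlong j).obj I := (restrTheta j).app I
  haveI : IsIso θ := NatIso.isIso_app_of_isIso (restrTheta j) I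
  have hu : EtDual.unitApp j I ≫ (EtCoh.push j).map θ = (restrEta j).app I :=
    ((EtCoh.pullPushAdj j).homEquiv_unit (f := θ)).symm.trans (Equiv.apply_symm_apply _ _)
  have hs : ∀ W : X.Etale, Function.Surjective ((EtDual.unitApp j I).hom.app (op W)) := fun W y => by
    let i := compBc j W
    haveI : IsOpenImmersion (pullback.fst W.hom j) := MorphismProperty.pullback_fst _ _ inferInstance
    haveI : Mono i.left := inferInstanceAs (Mono (pullback.fst W.hom j))
    haveI := mono_freeMap i
    let y' : ToType (I.obj.obj (op ((EtShriek.compEtale j).obj ((EtCoh.bc j).obj W)))) :=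
      θ.hom.app (op ((EtCoh.bc j).obj W)) y
    refine ⟨(Injective.factorThru (desc _ y') (freeMap i)).hom.app (op W) (gen W), ?_⟩
    haveI : IsIso (θ.hom.app (op ((EtCoh.bc j).obj W))) :=
      inferInstanceAs (IsIso (((sheafToPresheaf _ _).map θ).app (op ((EtCoh.bc j).obj W))))
    apply (ConcreteCategory.bijective_of_isIso (θ.hom.app (op ((EtCoh.bc j).obj W)))).1
    have h2 := congrArg (fun t : I ⟶ _ => t.hom.app (op W)
      ((Injective.factorThru (desc _ y') (freeMap i)).hom.app (op W) (gen W))) hu
    refine Eq.trans h2 ?_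
    show I.obj.map i.op ((Injective.factorThru (desc _ y') (freeMap i)).hom.app (op W) (gen W)) = y'
    rw [← freeMap_app, Injective.comp_factorThru, desc_gen]
  haveI : Epi ((sheafToPresheaf X.smallEtaleTopology AddCommGrpCat.{u + 1}).map (EtDual.unitApp j I)) := by
    rw [NatTrans.epi_iff_epi_app]
    intro W
    exact (AddCommGrpCat.epi_iff_surjective _).2 (hs W.unop)
  exact (sheafToPresheaf X.smallEtaleTopology AddCommGrpCat.{u + 1}).epi_of_epi_map inferInstance

variable (F : EtCoh.Ab X) (R : InjectiveResolution F)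

/-- `j_* j⁻¹`. -/
abbrev T : EtCoh.Ab X ⥤ EtCoh.Ab X := EtCoh.pull j ⋙ EtCoh.push j

instance additive_T : (T j).Additive := by
  haveI : (EtCoh.push j).Additive := { }
  infer_instance

/-- The unit on a complex. -/
def unitCx : R.cocomplex ⟶ ((T j).mapHomologicalComplex (ComplexShape.up ℕ)).obj R.cocomplex where
  f n := EtDual.unitApp j (R.cocomplex.X n)
  comm' n m _ := ((EtCoh.pullPushAdj j).unit.naturality (R.cocomplex.d n m)).symm

/-- The inclusion of supported sections on a complex. -/
def suppCx : ((EtDual.secSupp j).mapHomologicalComplex (ComplexShape.up ℕ)).obj R.cocomplex ⟶ R.cocomplex where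
  f n := kernel.ι (EtDual.unitApp j (R.cocomplex.X n))
  comm' n m _ := (kernel.lift_ι _ _ _).symm

/-- `Γ_Z R ⟶ R ⟶ j_* j⁻¹ R`. -/
def seq : ShortComplex (CochainComplex (EtCoh.Ab X) ℕ) :=
  ShortComplex.mk (suppCx j F R) (unitCx j F R) (HomologicalComplex.hom_ext _ _ fun _ => kernel.condition _)

theorem seq_shortExact : (seq j F R).ShortExact :=
  HomologicalComplex.shortExact_of_degreewise_shortExact _ fun n =>
    { exact := ShortComplex.exact_of_f_is_kernel _ (kernelIsKernel (EtDual.unitApp j (R.cocomplex.X n)))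
      mono_f := inferInstanceAs (Mono (kernel.ι (EtDual.unitApp j (R.cocomplex.X n))))
      epi_g := epi_unit_injective j (R.cocomplex.X n) }

/-- The restricted resolution. -/
def pullRes : InjectiveResolution ((EtCoh.pull j).obj F) :=
  haveI : PreservesFiniteColimits (EtCoh.pull j) :=
    haveI : PreservesColimitsOfSize.{0, 0} (EtCoh.pull j) := (EtCoh.pullPushAdj j).leftAdjoint_preservesColimits
    PreservesColimitsOfSize.preservesFiniteColimits _
  { cocomplex := ((EtCoh.pull j).mapHomologicalComplex _).obj R.cocomplex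
    injective := fun n => injective_pull (Scheme.Etale.mk j) (R.cocomplex.X n)
    ι := (HomologicalComplex.singleMapHomologicalComplex _ _ _).inv.app _ ≫
      ((EtCoh.pull j).mapHomologicalComplex _).map R.ι
    quasiIso := inferInstance }

/-- `R^p j_* (j⁻¹ F)` as homology of `j_* j⁻¹ R`. -/
def rpushIso (p : ℕ) : (EtCoh.Rpush j p).obj ((EtCoh.pull j).obj F) ≅ (seq j F R).X₃.homology p :=
  haveI : (EtCoh.push j).Additive := { }
  (pullRes j F R).isoRightDerivedObj (EtCoh.push j) p

/-- `H^p_Z(F)` as homology of `Γ_Z R`. -/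
def locCohIso (p : ℕ) : (EtDual.locCoh j p).obj F ≅ (seq j F R).X₁.homology p :=
  R.isoRightDerivedObj (EtDual.secSupp j) p

theorem isZero_X₂ (p : ℕ) : IsZero ((seq j F R).X₂.homology (p + 1)) :=
  (R.cocomplex.exactAt_iff_isZero_homology _).1 (R.cocomplex_exactAt_succ p)

include R in
theorem nonempty_iso_succ (p : ℕ) :
    Nonempty ((EtCoh.Rpush j (p + 1)).obj ((EtCoh.pull j).obj F) ≅ (EtDual.locCoh j (p + 1 + 1)).obj F) :=
  ⟨rpushIso j F R (p + 1) ≪≫ (seq_shortExact j F R).δIso (p + 1) (p + 1 + 1) rfl (isZero_X₂ j F R p)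
    (isZero_X₂ j F R (p + 1)) ≪≫ (locCohIso j F R (p + 1 + 1)).symm⟩

include R in
theorem nonempty_cokernel_iso :
    Nonempty (cokernel (EtDual.unitApp j F) ≅ (EtDual.locCoh j 1).obj F) := by
  let S := seq j F R
  have hS := seq_shortExact j F R
  haveI : Epi (hS.δ 0 1 rfl) := hS.epi_δ 0 1 rfl (isZero_X₂ j F R 0)
  have e₁ : cokernel (HomologicalComplex.homologyMap S.g 0) ≅ S.X₁.homology 1 :=
    (colimit.isColimit _).coconePointUniqueUpToIso (hS.homology_exact₃ 0 1 rfl).gIsCokernel
  let a := R.isLimitKernelFork.conePointUniqueUpToIso (R.cocomplex.cyclesIsKernel 0 1 (by simp))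
  haveI : PreservesLimitsOfSize.{0, 0} (EtCoh.push j) := (EtCoh.pullPushAdj j).rightAdjoint_preservesLimits
  haveI : PreservesFiniteLimits (EtCoh.push j) := PreservesLimitsOfSize.preservesFiniteLimits _
  haveI : PreservesFiniteLimits (T j) := comp_preservesFiniteLimits _ _
  let hl := KernelFork.mapIsLimit R.kernelFork R.isLimitKernelFork (T j)
  let b := hl.conePointUniqueUpToIso (S.X₃.cyclesIsKernel 0 1 (by simp))
  have ha : a.hom ≫ R.cocomplex.iCycles 0 = R.ι.f 0 :=
    IsLimit.conePointUniqueUpToIso_hom_comp R.isLimitKernelFork _ WalkingParallelPair.zero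
  have hb : b.hom ≫ S.X₃.iCycles 0 = (T j).map (R.ι.f 0) :=
    IsLimit.conePointUniqueUpToIso_hom_comp hl _ WalkingParallelPair.zero
  have sq : EtDual.unitApp j F ≫ b.hom = a.hom ≫ HomologicalComplex.cyclesMap S.g 0 := by
    rw [← cancel_mono (S.X₃.iCycles 0), Category.assoc, Category.assoc, hb, HomologicalComplex.cyclesMap_i]
    refine ((EtCoh.pullPushAdj j).unit.naturality (R.ι.f 0)).symm.trans ?_
    exact ((congrArg (fun t => t ≫ S.g.f 0) ha).symm.trans (Category.assoc _ _ _))
  have sq' : EtDual.unitApp j F ≫ (b ≪≫ S.X₃.isoHomologyπ₀).hom =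
      (a ≪≫ S.X₂.isoHomologyπ₀).hom ≫ HomologicalComplex.homologyMap S.g 0 := by
    simp only [Iso.trans_hom, reassoc_of% sq, Category.assoc]
    exact congrArg (fun t => a.hom ≫ t) (HomologicalComplex.homologyπ_naturality S.g 0).symm
  exact ⟨cokernel.mapIso _ _ (a ≪≫ S.X₂.isoHomologyπ₀) (b ≪≫ S.X₃.isoHomologyπ₀) sq' ≪≫ e₁ ≪≫
    (locCohIso j F R 1).symm⟩

end

end EtLocCohLib
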