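import Groth.Agent.EtLocCohLib.Clopen
import Groth.Agent.ClopenFFLib.Basic
import Groth.Agent.FEtColimLib.Cat

/-!
# Restriction of finite étale covers along open immersions and clopen subsets
-/

set_option autoImplicit false
set_option linter.unusedSectionVars false
set_option linter.style.haveILetI false
set_option backward.isDefEq.respectTransparency false
set_option backward.isDefEq.respectTransparency.types false
set_option maxHeartbeats 1000000

universe u

open CategoryTheory CategoryTheory.Limits AlgebraicGeometry TopologicalSpace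

namespace EtLocCohLib

noncomputable section

theorem eq_univ_of_dense_preimage {A B : Type*} [TopologicalSpace B] {f : A → B} (hf : DenseRange f) {D : Set B}
    (hD : IsClosed D) (h : f ⁻¹' D = Set.univ) : D = Set.univ := by
  rw [← hD.closure_eq, ← dense_iff_closure_eq]
  refine Dense.mono ?_ hf
  rintro _ ⟨a, rfl⟩
  exact h.ge (Set.mem_univ a)

theorem faithful_of_dense {P X' : Scheme.{u}} (f : P ⟶ X')
    (h : ∀ Y : FEt.Cat X', DenseRange (pullback.fst Y.hom f).base) : (FEt.restrict f).Faithful := by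
  refine ⟨fun {A B} a b hab => MorphismProperty.Over.Hom.ext ?_⟩
  haveI : IsFinite B.hom := B.prop.1
  haveI : Etale B.hom := B.prop.2
  have hw : a.left ≫ B.hom = b.left ≫ B.hom :=
    (MorphismProperty.Over.w a).trans (MorphismProperty.Over.w b).symm
  let j : A.left ⟶ pullback B.hom B.hom := pullback.lift a.left b.left hw
  let e := pullback.fst j (pullback.diagonal B.hom)
  haveI : IsOpenImmersion e := MorphismProperty.pullback_fst _ _ inferInstance
  haveI : IsClosedImmersion e := MorphismProperty.pullback_fst _ _ inferInstance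
  have hab' : pullback.fst A.hom f ≫ a.left = pullback.fst A.hom f ≫ b.left := by
    have h1 := congrArg (fun z => z.left ≫ pullback.fst B.hom f) hab
    simp only [FEt.restrict] at h1
    exact (pullback.lift_fst _ _ _).symm.trans (h1.trans (pullback.lift_fst _ _ _))
  have hpre : (pullback.fst A.hom f).base ⁻¹' Set.range e.base = Set.univ := by
    refine Set.eq_univ_of_forall fun p => ?_
    let l := pullback.lift (f := j) (g := pullback.diagonal B.hom) (pullback.fst A.hom f)
      (pullback.fst A.hom f ≫ a.left) (by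
        apply pullback.hom_ext
        · rw [Category.assoc, Category.assoc, pullback.diagonal_fst, Category.comp_id]
          exact congrArg (pullback.fst A.hom f ≫ ·) (pullback.lift_fst _ _ _)
        · rw [Category.assoc, Category.assoc, pullback.diagonal_snd, Category.comp_id]
          exact (congrArg (pullback.fst A.hom f ≫ ·) (pullback.lift_snd _ _ _)).trans hab'.symm)
    exact ⟨l p, by rw [← Scheme.Hom.comp_apply, pullback.lift_fst]; rfl⟩
  have huniv : Set.range e.base = Set.univ := eq_univ_of_dense_preimage (h A)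
    e.isClosedEmbedding.isClosed_range hpre
  haveI : Surjective e := ⟨Set.range_eq_univ.1 huniv⟩
  haveI : IsIso e := (isIso_iff_isOpenImmersion_and_surjective e).2 ⟨inferInstance, inferInstance⟩
  rw [← cancel_epi e]
  have hc : e ≫ j = pullback.snd j (pullback.diagonal B.hom) ≫ pullback.diagonal B.hom := pullback.condition
  have h1 := congrArg (· ≫ pullback.fst B.hom B.hom) hc
  have h2 := congrArg (· ≫ pullback.snd B.hom B.hom) hc
  simp only [j, Category.assoc, pullback.lift_fst, pullback.lift_snd, pullback.diagonal_fst,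
    pullback.diagonal_snd, Category.comp_id] at h1 h2
  exact h1.trans h2.symm

theorem dense_fst {P X' : Scheme.{u}} (f : P ⟶ X') (hf : DenseRange f.base) (Y : FEt.Cat X') :
    DenseRange (pullback.fst Y.hom f).base := by
  haveI : Etale Y.hom := Y.prop.2
  show Dense (Set.range (pullback.fst Y.hom f).base)
  rw [Scheme.Pullback.range_fst]
  exact hf.preimage Y.hom.isOpenMap

variable {X U : Scheme.{u}} (j : U ⟶ X) [IsOpenImmersion j]

theorem denseRange_snd (hd : DenseRange j.base) {X' : Scheme.{u}} (g : X' ⟶ X) [Etale g] :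
    DenseRange (pullback.snd j g).base := by
  show Dense (Set.range (pullback.snd j g).base)
  rw [Scheme.Pullback.range_snd]
  exact hd.preimage g.isOpenMap

theorem clopenBij_snd (hd : DenseRange j.base) (he : ClopenExt j) {X' : Scheme.{u}} (g : X' ⟶ X) [Etale g] :
    ClopenFFLib.ClopenBij (pullback.snd j g) := fun Y C' => by
  haveI : Etale Y.hom := Y.prop.2
  let W : X.Etale := MorphismProperty.Over.mk ⊤ (Y.hom ≫ g) (inferInstanceAs (Etale (Y.hom ≫ g)))
  let π := pullback.fst Y.hom (pullback.snd j g)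
  haveI : IsOpenImmersion π := inferInstance
  have hr : Set.range π.base = oU j W := by
    rw [Scheme.Pullback.range_fst, Scheme.Pullback.range_snd]
    rfl
  obtain ⟨C, hC, hCO⟩ := he W (π.base '' (C' : Set _))
    (by rw [← hr]; exact Set.image_subset_range _ _) (π.isOpenEmbedding.isOpenMap _ C'.isClopen.2)
    (by
      rw [← hr, show Set.range π.base \ π.base '' (C' : Set _) = π.base '' (C' : Set _)ᶜ from
        (Set.image_compl_eq_range_diff_image π.isOpenEmbedding.injective _).symm]
      exact π.isOpenEmbedding.isOpenMap _ C'.isClopen.1.isOpen_compl)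
  have hpre : π.base ⁻¹' C = (C' : Set _) := by
    ext z
    refine ⟨fun hz => ?_, fun hz => (hCO.ge ⟨z, hz, rfl⟩).1⟩
    obtain ⟨z', hz', e⟩ := hCO.le ⟨hz, hr.le ⟨z, rfl⟩⟩
    rw [← π.isOpenEmbedding.injective e]
    exact hz'
  refine ⟨⟨C, hC⟩, hpre, fun D hD => SetLike.coe_injective ?_⟩
  have hdf := dense_fst (pullback.snd j g) (denseRange_snd j hd g) Y
  change π.base ⁻¹' (D : Set Y.left) = _ at hD
  show (D : Set Y.left) = C
  have h1 := eq_univ_of_dense_preimage hdf (D := ((D : Set Y.left)ᶜ ∪ C) ∩ ((D : Set Y.left) ∪ Cᶜ))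
    ((D.isClopen.2.isClosed_compl.union hC.1).inter (D.isClopen.1.union hC.2.isClosed_compl))
    (Set.eq_univ_of_forall fun z => by
      have := Set.ext_iff.1 (hD.trans hpre.symm) z
      simp only [Set.mem_preimage] at this
      simp only [Set.mem_preimage, Set.mem_inter_iff, Set.mem_union, Set.mem_compl_iff]
      rw [this]
      exact ⟨(em _).symm, em _⟩)
  ext y
  obtain ⟨h2, h3⟩ := h1.ge (Set.mem_univ y)
  exact ⟨fun h => h2.resolve_left fun hn => hn h, fun h => h3.resolve_right fun hn => hn h⟩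

/-- The trivial cover. -/
def topCov (Y : Scheme.{u}) : FEt.Cat Y := MorphismProperty.Over.mk ⊤ (𝟙 Y) ⟨inferInstance, inferInstance⟩

theorem disjoint_range_sum (Y : Scheme.{u}) :
    Disjoint (Set.range (coprod.inl : Y ⟶ Y ⨿ Y).base) (Set.range (coprod.inr : Y ⟶ Y ⨿ Y).base) :=
  (isCompl_range_inl_inr Y Y).disjoint

theorem denseRange_of_faithful
    (h : ∀ (X' : Scheme.{u}) (g : X' ⟶ X) [Etale g], (FEt.restrict (pullback.snd j g)).Faithful) :
    DenseRange j.base := by
  by_contra hd
  let V : X.Opens := ⟨(closure (Set.range j.base))ᶜ, isClosed_closure.isOpen_compl⟩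
  obtain ⟨x, hx⟩ : (V : Set X).Nonempty := by
    rw [Set.nonempty_iff_ne_empty]
    intro he
    exact hd (dense_iff_closure_eq.2 (Set.compl_empty_iff.1 he))
  haveI := h V V.ι
  haveI : IsEmpty ↥(pullback j V.ι) := ⟨fun z => by
    obtain ⟨a, ha⟩ : (pullback.snd j V.ι).base z ∈ V.ι.base ⁻¹' Set.range j.base :=
      (Scheme.Pullback.range_snd j V.ι).le ⟨z, rfl⟩
    exact ((pullback.snd j V.ι).base z).2 (subset_closure ⟨a, ha⟩)⟩
  let T := topCov (V : Scheme.{u})
  haveI : IsEmpty ↥((FEt.restrict (pullback.snd j V.ι)).obj T).left :=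
    ⟨fun z => (inferInstance : IsEmpty ↥(pullback j V.ι)).false (((FEt.restrict (pullback.snd j V.ι)).obj T).hom.base z)⟩
  have e : FEtColim.sumInl T T = FEtColim.sumInr T T :=
    (FEt.restrict (pullback.snd j V.ι)).map_injective
      (MorphismProperty.Over.Hom.ext (isInitialOfIsEmpty.hom_ext _ _))
  refine Set.disjoint_left.1 (disjoint_range_sum (V : Scheme.{u})) ⟨⟨x, hx⟩, rfl⟩ ⟨⟨x, hx⟩, ?_⟩
  exact (congrArg (fun k : T ⟶ FEtColim.sumCov T T => k.left.base (⟨x, hx⟩ : (V : Scheme.{u}))) e).symm

theorem clopenExt_of_full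
    (h : ∀ (X' : Scheme.{u}) (g : X' ⟶ X) [Etale g], (FEt.restrict (pullback.snd j g)).Full) :
    ClopenExt j := fun W s hs hs1 hs2 => by
  haveI : Etale W.hom := W.prop
  haveI := h W.left W.hom
  let f : pullback j W.hom ⟶ W.left := pullback.snd j W.hom
  have hf : ∀ z, f.base z ∈ oU j W := fun z => (Scheme.Pullback.range_snd j W.hom).le ⟨z, rfl⟩
  let A : (pullback j W.hom).Opens := f ⁻¹ᵁ ⟨s, hs1⟩
  let B : (pullback j W.hom).Opens := f ⁻¹ᵁ ⟨oU j W \ s, hs2⟩
  have hAB : IsCompl A.ι.opensRange B.ι.opensRange := by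
    rw [Scheme.Opens.opensRange_ι, Scheme.Opens.opensRange_ι]
    constructor
    · rw [disjoint_iff]
      ext z
      exact iff_of_false (fun hz => hz.2.2 hz.1) id
    · rw [codisjoint_iff]
      ext z
      exact iff_of_true ((em (f.base z ∈ s)).imp id fun hn => ⟨hf z, hn⟩) trivial
  obtain ⟨hc⟩ := nonempty_isColimit_binaryCofanMk_of_isCompl A.ι B.ι hAB
  obtain ⟨k, hk1, hk2⟩ := BinaryCofan.IsColimit.desc' hc (A.ι ≫ f ≫ (coprod.inl : _ ⟶ W.left ⨿ W.left))
    (B.ι ≫ f ≫ coprod.inr)
  change A.ι ≫ k = _ at hk1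
  change B.ι ≫ k = _ at hk2
  let T := topCov W.left
  have hk : k ≫ coprod.desc (𝟙 W.left) (𝟙 W.left) = f := by
    refine BinaryCofan.IsColimit.hom_ext hc ?_ ?_
    · show A.ι ≫ _ = A.ι ≫ f
      rw [reassoc_of% hk1, coprod.inl_desc, Category.comp_id]
    · show B.ι ≫ _ = B.ι ≫ f
      rw [reassoc_of% hk2, coprod.inr_desc, Category.comp_id]
  let b : pullback (𝟙 W.left) f ⟶ W.left ⨿ W.left := pullback.snd _ _ ≫ k
  have hb : b ≫ coprod.desc (𝟙 W.left) (𝟙 W.left) = pullback.snd (𝟙 W.left) f ≫ f := by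
    simp only [b, Category.assoc, hk]
  let ψ : (FEt.restrict f).obj T ⟶ (FEt.restrict f).obj (FEtColim.sumCov T T) :=
    MorphismProperty.Over.homMk (pullback.lift b (pullback.snd (𝟙 W.left) f) hb) (pullback.lift_snd _ _ _)
  obtain ⟨a, ha⟩ := (FEt.restrict f).map_surjective ψ
  let a' : W.left ⟶ W.left ⨿ W.left := a.left
  have hz : f ≫ a' = k := by
    have e1 : pullback.fst (𝟙 W.left) f ≫ a' = b :=
      (FEtColim.restrict_map_fst f a).symm.trans
        ((congrArg (fun m => m.left ≫ pullback.fst _ f) ha).trans (pullback.lift_fst _ _ _))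
    let l : pullback j W.hom ⟶ pullback (𝟙 W.left) f := pullback.lift f (𝟙 _) (by simp)
    calc f ≫ a' = l ≫ pullback.fst (𝟙 W.left) f ≫ a' := by rw [pullback.lift_fst_assoc]
      _ = k := by rw [e1, pullback.lift_snd_assoc, Category.id_comp]
  refine ⟨a'.base ⁻¹' Set.range (coprod.inl : W.left ⟶ W.left ⨿ W.left).base, ⟨?_, ?_⟩, ?_⟩
  · refine IsClosed.preimage a'.continuous ?_
    rw [← (isCompl_range_inl_inr W.left W.left).symm.compl_eq]
    exact (coprod.inr : W.left ⟶ W.left ⨿ W.left).isOpenEmbedding.isOpen_range.isClosed_compl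
  · exact (coprod.inl : W.left ⟶ W.left ⨿ W.left).isOpenEmbedding.isOpen_range.preimage a'.continuous
  have hzA : ∀ z, f.base z ∈ s → a'.base (f.base z) ∈ Set.range (coprod.inl : W.left ⟶ W.left ⨿ W.left).base :=
    fun z hzs => ⟨f.base z, by
      rw [← Scheme.Hom.comp_apply f a', hz]
      exact (congrArg (fun m : (A : Scheme.{u}) ⟶ W.left ⨿ W.left => m.base ⟨z, hzs⟩) hk1).symm⟩
  ext y
  constructor
  · rintro ⟨hy, hyU⟩
    by_contra hn
    obtain ⟨z, rfl⟩ := (Scheme.Pullback.range_snd j W.hom).ge hyU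
    refine Set.disjoint_left.1 (disjoint_range_sum W.left) hy ⟨f.base z, ?_⟩
    show _ = a'.base (f.base z)
    rw [← Scheme.Hom.comp_apply f a', hz]
    exact (congrArg (fun m : (B : Scheme.{u}) ⟶ W.left ⨿ W.left => m.base ⟨z, hyU, hn⟩) hk2).symm
  · intro hy
    obtain ⟨z, rfl⟩ := (Scheme.Pullback.range_snd j W.hom).ge (hs hy)
    exact ⟨hzA z hy, hs hy⟩

theorem faithful_iff :
    DenseRange j.base ↔
      ∀ (X' : Scheme.{u}) (g : X' ⟶ X) [Etale g], (FEt.restrict (pullback.snd j g)).Faithful :=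
  ⟨fun hd _ g _ => faithful_of_dense _ (dense_fst _ (denseRange_snd j hd g)), denseRange_of_faithful j⟩

theorem full_faithful_iff :
    DenseRange j.base ∧ ClopenExt j ↔
      ∀ (X' : Scheme.{u}) (g : X' ⟶ X) [Etale g],
        (FEt.restrict (pullback.snd j g)).Full ∧ (FEt.restrict (pullback.snd j g)).Faithful :=
  ⟨fun h _ g _ => ClopenFFLib.full_faithful _ (clopenBij_snd j h.1 h.2 g),
    fun h => ⟨denseRange_of_faithful j fun X' g _ => (h X' g).2, clopenExt_of_full j fun X' g _ => (h X' g).1⟩⟩

end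

end EtLocCohLib
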