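import Groth.Agent.EtLocCohLib.Depth
import Groth.Prelude.Def_RDer
import Mathlib.Algebra.Homology.ShortComplex.Exact

/-!
# The edge map out is an isomorphism when the lower derived sheaves vanish
-/

set_option autoImplicit false
set_option linter.unusedSectionVars false
set_option linter.style.haveILetI false
set_option backward.isDefEq.respectTransparency false
set_option backward.isDefEq.respectTransparency.types false
set_option maxHeartbeats 1000000

universe u v₂ v₃ u₂ u₃

open CategoryTheory CategoryTheory.Limits HomologicalComplex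

namespace EtLocCohLib

noncomputable section

section Abstract

variable {B : Type u₂} [Category.{v₂} B] [Abelian B] {C : Type u₃} [Category.{v₃} C] [Abelian C]
  (Ψ : B ⥤ C) [Ψ.Additive] [PreservesFiniteLimits Ψ] (K : CochainComplex B ℕ) [∀ p, Injective (K.X p)]

/-- The homology projection splits together with the boundaries. -/
def SplitAt (p : ℕ) : Prop :=
  ∃ (r : K.cycles p ⟶ K.X ((ComplexShape.up ℕ).prev p)) (σ : K.homology p ⟶ K.cycles p),
    r ≫ K.toCycles _ p + K.homologyπ p ≫ σ = 𝟙 _ ∧ σ ≫ K.homologyπ p = 𝟙 _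

theorem injective_cycles {p : ℕ} (h : SplitAt K p) (h0 : IsZero (K.homology p)) : Injective (K.cycles p) := by
  obtain ⟨r, σ, e, -⟩ := h
  rw [h0.eq_of_src σ 0, comp_zero, add_zero] at e
  exact ({ i := r, r := K.toCycles _ p, retract := e } : Retract (K.cycles p) _).injective

theorem splitAt_succ {p : ℕ} (h : Injective (K.cycles p)) : SplitAt K (p + 1) := by
  have hp : (ComplexShape.up ℕ).prev (p + 1) = p := by simp
  unfold SplitAt
  rw [hp]
  let i := K.iCycles p
  let q := K.toCycles p (p + 1)
  have hiq : i ≫ q = 0 := by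
    rw [← cancel_mono (K.iCycles (p + 1)), Category.assoc, toCycles_i, iCycles_d, zero_comp]
  have hex : (ShortComplex.mk i q hiq).Exact := ShortComplex.exact_of_f_is_kernel _
    (KernelFork.IsLimit.ofι _ _ (fun a ha => K.liftCycles a (p + 1) (by simp) (by
        rw [← toCycles_i K p (p + 1), ← Category.assoc, ha, zero_comp]))
      (fun a ha => K.liftCycles_i _ _ _ _)
      (fun a ha b hb => by rw [← cancel_mono (K.iCycles p), liftCycles_i]; exact hb))
  let ρ : K.X p ⟶ K.cycles p := Injective.factorThru (𝟙 _) i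
  have hρ : i ≫ ρ = 𝟙 _ := Injective.comp_factorThru _ _
  let a : K.X p ⟶ K.X p := 𝟙 _ - ρ ≫ i
  have hia : i ≫ a = 0 := by
    rw [Preadditive.comp_sub, Category.comp_id, ← Category.assoc, hρ, Category.id_comp, sub_self]
  let r : K.cycles (p + 1) ⟶ K.X p := hex.descToInjective a hia
  have hr : q ≫ r = a := hex.comp_descToInjective a hia
  let b : K.cycles (p + 1) ⟶ K.cycles (p + 1) := 𝟙 _ - r ≫ q
  have hqb : K.toCycles p (p + 1) ≫ b = 0 := by
    show q ≫ b = 0
    rw [Preadditive.comp_sub, Category.comp_id, ← Category.assoc, hr, Preadditive.sub_comp, Category.id_comp,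
      Category.assoc, hiq, comp_zero, sub_zero, sub_self]
  let hcok := K.homologyIsCokernel p (p + 1) hp
  let σ : K.homology (p + 1) ⟶ K.cycles (p + 1) := hcok.desc (CokernelCofork.ofπ b hqb)
  have hσ : K.homologyπ (p + 1) ≫ σ = b := hcok.fac _ WalkingParallelPair.one
  refine ⟨r, σ, ?_, ?_⟩
  · rw [hσ, add_sub_cancel]
  · rw [← cancel_epi (K.homologyπ (p + 1)), ← Category.assoc, hσ, Preadditive.sub_comp, Category.id_comp,
      Category.assoc, toCycles_comp_homologyπ, comp_zero, sub_zero, Category.comp_id]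

theorem splitAt_zero : SplitAt K 0 := by
  refine ⟨0, inv (K.homologyπ 0), ?_, IsIso.inv_hom_id _⟩
  rw [zero_comp, zero_add, IsIso.hom_inv_id]

theorem splitAt_of_exact : ∀ n : ℕ, (∀ p, p < n → IsZero (K.homology p)) → SplitAt K n := by
  intro n
  induction n with
  | zero => exact fun _ => splitAt_zero K
  | succ n ih =>
    exact fun h => splitAt_succ K (injective_cycles K (ih fun p hp => h p (by omega)) (h n (by omega)))

theorem isIso_cyclesComparison (i : ℕ) : IsIso (RDer.cyclesComparison Ψ K i) := by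
  let hl := KernelFork.mapIsLimit _ (K.cyclesIsKernel i ((ComplexShape.up ℕ).next i) rfl) Ψ
  let e := (((Ψ.mapHomologicalComplex (ComplexShape.up ℕ)).obj K).cyclesIsKernel i _ rfl).conePointUniqueUpToIso hl
  have : RDer.cyclesComparison Ψ K i = e.hom := by
    apply Fork.IsLimit.hom_ext hl
    exact (hl.fac _ WalkingParallelPair.zero).trans
      (IsLimit.conePointUniqueUpToIso_hom_comp _ hl WalkingParallelPair.zero).symm
  rw [this]
  infer_instance

theorem isIso_homologyComparison {n : ℕ} (h : ∀ p, p < n → IsZero (K.homology p)) :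
    IsIso (RDer.homologyComparison Ψ K n) := by
  obtain ⟨r, σ, e, eσ⟩ := splitAt_of_exact K n h
  haveI := isIso_cyclesComparison Ψ K n
  let L := (Ψ.mapHomologicalComplex (ComplexShape.up ℕ)).obj K
  let c := RDer.cyclesComparison Ψ K n
  let back : Ψ.obj (K.homology n) ⟶ L.homology n := Ψ.map σ ≫ inv c ≫ L.homologyπ n
  refine ⟨back, ?_, ?_⟩
  · rw [← cancel_epi (L.homologyπ n), RDer.homologyπ_homologyComparison_assoc, Category.comp_id]
    show c ≫ Ψ.map (K.homologyπ n) ≫ Ψ.map σ ≫ inv c ≫ L.homologyπ n = _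
    rw [← Functor.map_comp_assoc, show K.homologyπ n ≫ σ = 𝟙 _ - r ≫ K.toCycles _ n from eq_sub_of_add_eq' e,
      Functor.map_sub, CategoryTheory.Functor.map_id, Preadditive.sub_comp, Category.id_comp, Preadditive.comp_sub,
      IsIso.hom_inv_id_assoc, Functor.map_comp, ← RDer.toCycles_cyclesComparison Ψ K n]
    simp only [Category.assoc]
    erw [IsIso.hom_inv_id_assoc, toCycles_comp_homologyπ]
    rw [comp_zero, comp_zero, sub_zero]
  · show (Ψ.map σ ≫ inv c ≫ L.homologyπ n) ≫ _ = _
    rw [Category.assoc, Category.assoc, RDer.homologyπ_homologyComparison]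
    show Ψ.map σ ≫ inv c ≫ c ≫ Ψ.map (K.homologyπ n) = _
    rw [IsIso.inv_hom_id_assoc, ← Functor.map_comp, eσ, CategoryTheory.Functor.map_id]

end Abstract

open AlgebraicGeometry

variable {X U : Scheme.{u}} (j : U ⟶ X) [IsOpenImmersion j] [EtCoh.BCCont j]

theorem injective_secSupp (I : EtCoh.Ab X) [Injective I] : Injective ((EtDual.secSupp j).obj I) := by
  haveI : AlgebraicGeometry.Etale j := inferInstance
  haveI := Groth.Agent.EtShLib.jCont j
  haveI := epi_unit_injective j I
  let θ := Groth.Agent.EtShLib.restrTheta j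
  haveI : IsIso θ := Groth.Agent.EtShLib.isIso_restrTheta j
  let adj₁ := EtShriek.extZeroAdj j
  let adj₂ := (EtCoh.pullPushAdj j).ofNatIsoLeft (asIso θ)
  let J := (EtShriek.restrAlong j).obj I
  let u := EtDual.unitApp j I
  let pθ := (EtCoh.push j).map (θ.app I)
  haveI : IsIso (θ.app I) := NatIso.isIso_app_of_isIso θ I
  haveI : IsIso pθ := Functor.map_isIso (EtCoh.push j) (θ.app I)
  have hη : adj₂.unit.app I = u ≫ pθ := by
    simp [adj₂, u, pθ, Adjunction.ofNatIsoLeft, Adjunction.homEquiv_unit]
  let m : (EtShriek.extZero j).obj J ⟶ (EtCoh.push j).obj J := adj₁.counit.app I ≫ u ≫ pθ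
  haveI : Mono m := by
    refine (Groth.Agent.EtShLib.mono_iff_stalks (A := AddCommGrpCat.{u + 1}) _).2 fun Ω _ _ ξ => ?_
    by_cases hξ : ξ.base default ∈ Set.range j.base
    · haveI := Groth.Agent.EtShLib.isIso_counit_stalk j I ξ hξ
      haveI : Mono ((Groth.Agent.EtShLib.stk (A := AddCommGrpCat.{u + 1}) ξ).map u) := by
        refine (AddCommGrpCat.mono_iff_injective _).2 ((injective_iff_map_eq_zero _).2 fun z hz => ?_)
        obtain ⟨W, w, s, rfl⟩ := Groth.Agent.EtShLib.exists_germ (A := AddCommGrpCat.{u + 1}) ξ z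
        rw [Groth.Agent.EtShLib.germ_natural_apply,
          ← map_zero (Groth.Agent.EtShLib.germ (A := AddCommGrpCat.{u + 1}) ξ _ W w).hom] at hz
        obtain ⟨V, g, v, hv, he⟩ := (Groth.Agent.EtShLib.germ_eq_iff (A := AddCommGrpCat.{u + 1}) ξ W w _ _).1 hz
        rw [map_zero, ← NatTrans.naturality_apply, unitApp_app_eq_zero_iff] at he
        obtain ⟨y, hy⟩ := hξ
        obtain ⟨l, hl, -⟩ := Scheme.exists_fac_of_etale_of_isSepClosed j ξ y hy
        let D := (EtShriek.compEtale j).obj ((EtCoh.bc j).obj V)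
        let d : Groth.Agent.EtShLib.Fib ξ D := Groth.Agent.EtShLib.Fib.mk (pullback.lift v.hom l (by rw [hl]; exact v.w)) (by
          show pullback.lift v.hom l _ ≫ pullback.snd V.hom j ≫ j = ξ
          rw [pullback.lift_snd_assoc, hl])
        have hd : d.map (iU j V) = v := Groth.Agent.EtShLib.Fib.ext
          ((Groth.Agent.EtShLib.Fib.map_hom _ d).trans (pullback.lift_fst _ _ _))
        rw [← hv, ← Groth.Agent.EtShLib.germ_res_apply, ← hd, ← Groth.Agent.EtShLib.germ_res_apply, he, map_zero]
      rw [Functor.map_comp, Functor.map_comp]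
      infer_instance
    · exact (Groth.Agent.EtShLib.isZero_stalk_extZero j J ξ hξ).mono _
  let s : (EtCoh.push j).obj J ⟶ I := Injective.factorThru (adj₁.counit.app I) m
  have hs : m ≫ s = adj₁.counit.app I := Injective.comp_factorThru _ _
  let η : I ⟶ (EtCoh.push j).obj J := u ≫ pθ
  haveI : Epi η := epi_comp _ _
  let δ : (EtCoh.push j).obj J ⟶ (EtCoh.push j).obj J := s ≫ η - 𝟙 _
  haveI := Groth.Agent.EtShLib.isIso_unit j J
  haveI : IsIso ((EtShriek.restrAlong j).map (adj₁.counit.app I)) := by
    haveI : IsIso (adj₁.unit.app J ≫ (EtShriek.restrAlong j).map (adj₁.counit.app I)) := by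
      rw [adj₁.right_triangle_components]
      exact inferInstanceAs (IsIso (𝟙 ((EtShriek.restrAlong j).obj I)))
    exact IsIso.of_isIso_comp_left (adj₁.unit.app J) _
  have hδ : η ≫ δ = 0 := by
    apply (adj₂.homEquiv _ _).symm.injective
    rw [Adjunction.homEquiv_counit, Adjunction.homEquiv_counit, Functor.map_zero, zero_comp,
      ← cancel_epi ((EtShriek.restrAlong j).map (adj₁.counit.app I)), comp_zero, ← Category.assoc, ← Functor.map_comp]
    have hm : adj₁.counit.app I ≫ η ≫ δ = 0 := by
      show adj₁.counit.app I ≫ η ≫ (s ≫ η - 𝟙 _) = 0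
      rw [← Category.assoc, show adj₁.counit.app I ≫ η = m from rfl, Preadditive.comp_sub, ← Category.assoc, hs,
        Category.comp_id]
      exact sub_self _
    rw [hm, Functor.map_zero, zero_comp]
  have hsη : s ≫ η = 𝟙 _ := sub_eq_zero.1 ((cancel_epi η).1 (hδ.trans comp_zero.symm))
  let ρ : I ⟶ (EtDual.secSupp j).obj I := kernel.lift u (𝟙 _ - η ≫ s) (by
    rw [← cancel_mono pθ, zero_comp, Category.assoc]
    show (𝟙 _ - η ≫ s) ≫ η = 0
    rw [Preadditive.sub_comp, Category.id_comp, Category.assoc, hsη, Category.comp_id, sub_self])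
  refine ({ i := kernel.ι u, r := ρ, retract := ?_ } : Retract ((EtDual.secSupp j).obj I) I).injective
  rw [← cancel_mono (kernel.ι u), Category.assoc, kernel.lift_ι, Category.id_comp, Preadditive.comp_sub,
    Category.comp_id, ← Category.assoc, show kernel.ι u ≫ η = 0 from by
      show kernel.ι u ≫ u ≫ pθ = 0
      rw [← Category.assoc, kernel.condition, zero_comp], zero_comp, sub_zero]

theorem isIso_edgeOut {C : Type u₃} [Category.{v₃} C] [Abelian C] (Ψ : EtCoh.Ab X ⥤ C) [Ψ.Additive]
    [PreservesFiniteLimits Ψ] (F : EtCoh.Ab X) (n : ℕ) (h : EtDepth.DepthGE j F n) :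
    IsIso (RDer.edgeOut (EtDual.secSupp j) Ψ n F) := by
  let R := injectiveResolution F
  let K := ((EtDual.secSupp j).mapHomologicalComplex (ComplexShape.up ℕ)).obj R.cocomplex
  haveI : ∀ p, Injective (K.X p) := fun p => injective_secSupp j (R.cocomplex.X p)
  haveI := isIso_homologyComparison Ψ K (n := n) fun p hp =>
    (h p hp).of_iso (R.isoRightDerivedObj (EtDual.secSupp j) p).symm
  unfold RDer.edgeOut
  infer_instance

end

end EtLocCohLib
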