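import Groth.Agent.EtLocCohLib.Depth

/-!
# Etale excision for cohomology with supports
-/

set_option autoImplicit false
set_option linter.unusedSectionVars false
set_option linter.style.haveILetI false
set_option backward.isDefEq.respectTransparency false
set_option backward.isDefEq.respectTransparency.types false
set_option synthInstance.maxHeartbeats 400000
set_option maxHeartbeats 1000000

universe u

open CategoryTheory CategoryTheory.Limits AlgebraicGeometry Opposite
open Groth.Agent.EtShLib EtSliceLib

namespace EtLocCohLib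

noncomputable section

/-- Points with values in a field agree if they agree on the base and the residue extension is trivial. -/
theorem field_point_ext {X' X : Scheme.{u}} (f : X' ⟶ X) (K : Type u) [Field K] (a b : Spec (.of K) ⟶ X')
    (x : ↥X') (ha : a (IsLocalRing.closedPoint K) = x) (hb : b (IsLocalRing.closedPoint K) = x)
    (hκ : Function.Surjective (f.residueFieldMap x)) (h : a ≫ f = b ≫ f) : a = b := by
  obtain ⟨⟨xa, a₀⟩, rfl⟩ := (Scheme.SpecToEquivOfField K X').symm.surjective a
  obtain ⟨⟨xb, b₀⟩, rfl⟩ := (Scheme.SpecToEquivOfField K X').symm.surjective b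
  have hxa : xa = x := by
    rw [← ha]
    exact (Scheme.fromSpecResidueField_apply xa _).symm
  have hxb : xb = x := by
    rw [← hb]
    exact (Scheme.fromSpecResidueField_apply xb _).symm
  subst hxa hxb
  haveI : Epi (f.residueFieldMap xb) := ConcreteCategory.epi_of_surjective _ hκ
  have h' : (Spec.map a₀ ≫ X'.fromSpecResidueField xb) ≫ f = (Spec.map b₀ ≫ X'.fromSpecResidueField xb) ≫ f := h
  rw [Category.assoc, Category.assoc, ← Scheme.Hom.SpecMap_residueFieldMap_fromSpecResidueField] at h'
  rw [← Category.assoc, ← Category.assoc, cancel_mono, ← Spec.map_comp, ← Spec.map_comp] at h'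
  have h2 : a₀ = b₀ := (cancel_epi (f.residueFieldMap xb)).1 (Spec.map_injective h')
  rw [h2]

variable {X X' U U' : Scheme.{u}} (f : X' ⟶ X) [AlgebraicGeometry.Etale f] (j : U ⟶ X) [IsOpenImmersion j]
  (j' : U' ⟶ X') [IsOpenImmersion j']

/-- Maps to the final object. -/
theorem top_hom_ext {Y : Scheme.{u}} {V : Y.Etale} (p q : V ⟶ EtCoh.top Y) : p = q := by
  refine MorphismProperty.Over.Hom.ext ?_
  have hp := MorphismProperty.Over.w p
  have hq := MorphismProperty.Over.w q
  simp only [EtCoh.top] at hp hq
  exact ((Category.comp_id _).symm.trans hp).trans ((Category.comp_id _).symm.trans hq).symm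

/-- The object `X' ⟶ X`. -/
abbrev pObj : X.Etale := (EtShriek.compEtale f).obj (EtCoh.top X')

/-- Its map to the final object. -/
def pTop : pObj f ⟶ EtCoh.top X :=
  MorphismProperty.Over.homMk f (by show f ≫ 𝟙 X = 𝟙 X' ≫ f; simp)

/-- The part over `U`. -/
abbrev aObj : X.Etale := (EtShriek.compEtale j).obj ((EtCoh.bc j).obj (EtCoh.top X))

theorem range_aObj : Set.range (iU j (EtCoh.top X)).left.base = Set.range j.base := by
  have h : Set.range (pullback.fst (𝟙 X) j).base = (𝟙 X : X ⟶ X).base ⁻¹' Set.range j.base :=
    Scheme.Pullback.range_fst (𝟙 X) j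
  exact h.trans (by simp)

instance : IsOpenImmersion (iU j (EtCoh.top X)).left :=
  inferInstanceAs (IsOpenImmersion (pullback.fst (EtCoh.top X).hom j))

theorem map_eq_zero_of_range {G : EtCoh.Ab X} {s : ToType (G.obj.obj (op (EtCoh.top X)))}
    (hs : G.obj.map (iU j (EtCoh.top X)).op s = 0) {V : X.Etale} (q : V ⟶ EtCoh.top X)
    (hV : Set.range V.hom.base ⊆ Set.range j.base) : G.obj.map q.op s = 0 := by
  have hq : q.left.base = V.hom.base := by
    have h := MorphismProperty.Over.w q
    simp only [EtCoh.top] at h
    exact congrArg (fun t => t.base) ((Category.comp_id _).symm.trans h)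
  let r : V ⟶ aObj j := MorphismProperty.Over.homMk (IsOpenImmersion.lift (iU j (EtCoh.top X)).left q.left
    (by rw [range_aObj, hq]; exact hV)) (by
      rw [← MorphismProperty.Over.w (iU j (EtCoh.top X)), IsOpenImmersion.lift_fac_assoc]
      exact MorphismProperty.Over.w q)
  have e : q = r ≫ iU j (EtCoh.top X) := top_hom_ext _ _
  rw [e, op_comp, Functor.map_comp, ConcreteCategory.comp_apply, hs]
  exact map_zero (G.obj.map r.op).hom

/-- Sections vanishing on `U` descend uniquely from `X'`. -/
theorem existsUnique_descend (hU' : Set.range j'.base = f.base ⁻¹' Set.range j.base)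
    (hZ : Set.BijOn f.base (Set.range j'.base)ᶜ (Set.range j.base)ᶜ)
    (hκ : ∀ x' : ↥X', x' ∉ Set.range j'.base → Function.Surjective (f.residueFieldMap x'))
    (G : EtCoh.Ab X) (t : ToType (G.obj.obj (op (pObj f))))
    (ht : G.obj.map ((EtShriek.compEtale f).map (iU j' (EtCoh.top X'))).op t = 0) :
    ∃! s : ToType (G.obj.obj (op (EtCoh.top X))),
      G.obj.map (iU j (EtCoh.top X)).op s = 0 ∧ G.obj.map (pTop f).op s = t := by
  let W : Bool → X.Etale := fun k => Bool.rec (motive := fun _ => X.Etale) (pObj f) (aObj j) k
  let π : ∀ k, W k ⟶ EtCoh.top X := fun k =>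
    Bool.rec (motive := fun k => W k ⟶ EtCoh.top X) (pTop f) (iU j (EtCoh.top X)) k
  let x : ∀ k, G.obj.obj (op (W k)) := fun k => Bool.rec (motive := fun k => G.obj.obj (op (W k))) t 0 k
  have hmem : Sieve.ofArrows W π ∈ X.smallEtaleTopology (EtCoh.top X) := by
    rw [Scheme.ofArrows_mem_smallEtaleTopology_iff]
    refine Set.eq_univ_of_forall fun y => ?_
    by_cases hy : y ∈ Set.range j.base
    · exact Set.mem_iUnion.2 ⟨true, (range_aObj j).ge hy⟩
    · obtain ⟨x', -, hx⟩ := hZ.surjOn hy
      exact Set.mem_iUnion.2 ⟨false, ⟨x', hx⟩⟩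
  have hsh : (Presieve.ofArrows W π).IsSheafFor (G.obj ⋙ forget AddCommGrpCat.{u + 1}) := by
    rw [Presieve.isSheafFor_iff_generate]
    exact ((isSheaf_iff_isSheaf_of_type _ _).1
      (GrothendieckTopology.HasSheafCompose.isSheaf G.obj G.property)) _ hmem
  have hkill : ∀ {Z : X.Etale} (q : Z ⟶ pObj f), Set.range Z.hom.base ⊆ Set.range j.base →
      G.obj.map q.op t = 0 := by
    intro Z q hr
    haveI : IsOpenImmersion ((EtShriek.compEtale f).map (iU j' (EtCoh.top X'))).left :=
      inferInstanceAs (IsOpenImmersion (pullback.fst (EtCoh.top X').hom j'))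
    have hqf : q.left ≫ f = Z.hom :=
      (congrArg (q.left ≫ ·) (Category.id_comp f)).symm.trans (MorphismProperty.Over.w q :)
    let r : Z ⟶ (EtShriek.compEtale f).obj ((EtShriek.compEtale j').obj ((EtCoh.bc j').obj (EtCoh.top X'))) :=
      MorphismProperty.Over.homMk (IsOpenImmersion.lift ((EtShriek.compEtale f).map (iU j' (EtCoh.top X'))).left
        q.left (by
          rintro _ ⟨z, rfl⟩
          refine (range_aObj j').ge ?_
          rw [hU']
          refine hr ⟨z, ?_⟩
          rw [← hqf]
          rfl)) (by
        rw [← MorphismProperty.Over.w ((EtShriek.compEtale f).map (iU j' (EtCoh.top X'))),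
          IsOpenImmersion.lift_fac_assoc]
        exact MorphismProperty.Over.w q)
    have e : q = r ≫ (EtShriek.compEtale f).map (iU j' (EtCoh.top X')) :=
      MorphismProperty.Over.Hom.ext (IsOpenImmersion.lift_fac _ _ _).symm
    rw [e, op_comp, Functor.map_comp, ConcreteCategory.comp_apply, ht]
    exact map_zero (G.obj.map r.op).hom
  have hPP : ∀ {Z : X.Etale} (p q : Z ⟶ pObj f), G.obj.map p.op t = G.obj.map q.op t := by
    intro Z p q
    have hp : p.left ≫ f = Z.hom :=
      (congrArg (p.left ≫ ·) (Category.id_comp f)).symm.trans (MorphismProperty.Over.w p :)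
    have hq : q.left ≫ f = Z.hom :=
      (congrArg (q.left ≫ ·) (Category.id_comp f)).symm.trans (MorphismProperty.Over.w q :)
    let pq : Z.left ⟶ pullback f f := pullback.lift p.left q.left (hp.trans hq.symm)
    haveI : AlgebraicGeometry.Etale (pullback.fst pq (pullback.diagonal f) ≫ Z.hom) :=
      haveI : AlgebraicGeometry.Etale Z.hom := Z.prop
      inferInstance
    let E : X.Etale := MorphismProperty.Over.mk ⊤ (pullback.fst pq (pullback.diagonal f) ≫ Z.hom) inferInstance
    let e : E ⟶ Z := MorphismProperty.Over.homMk (pullback.fst pq (pullback.diagonal f)) rfl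
    let W' : Bool → X.Etale := fun k =>
      Bool.rec (motive := fun _ => X.Etale) E ((EtShriek.compEtale j).obj ((EtCoh.bc j).obj Z)) k
    let π' : ∀ k, W' k ⟶ Z := fun k => Bool.rec (motive := fun k => W' k ⟶ Z) e (iU j Z) k
    have hmem' : Sieve.ofArrows W' π' ∈ X.smallEtaleTopology Z := by
      rw [Scheme.ofArrows_mem_smallEtaleTopology_iff]
      refine Set.eq_univ_of_forall fun z => ?_
      by_cases hz : Z.hom.base z ∈ Set.range j.base
      · refine Set.mem_iUnion.2 ⟨true, ?_⟩
        exact (Scheme.Pullback.range_fst Z.hom j).ge hz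
      · refine Set.mem_iUnion.2 ⟨false, ?_⟩
        have hfp : f (p.left z) = Z.hom z := (congrArg (fun t => t.base z) hp :)
        have hfq : f (q.left z) = Z.hom z := (congrArg (fun t => t.base z) hq :)
        have hpn : p.left z ∉ Set.range j'.base := by
          rw [hU']
          exact fun h => hz (hfp ▸ h)
        have hqn : q.left z ∉ Set.range j'.base := by
          rw [hU']
          exact fun h => hz (hfq ▸ h)
        have hpqz : p.left z = q.left z := hZ.injOn hpn hqn (hfp.trans hfq.symm)
        have hl : Z.left.fromSpecResidueField z ≫ p.left = Z.left.fromSpecResidueField z ≫ q.left := by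
          refine field_point_ext f _ _ _ (p.left z) ?_ ?_ (hκ _ hpn) ?_
          · exact congrArg p.left.base (Scheme.fromSpecResidueField_apply z _)
          · exact (congrArg q.left.base (Scheme.fromSpecResidueField_apply z _)).trans hpqz.symm
          · rw [Category.assoc, Category.assoc, hp, hq]
        let l : Spec (Z.left.residueField z) ⟶ pullback pq (pullback.diagonal f) :=
          pullback.lift (Z.left.fromSpecResidueField z) (Z.left.fromSpecResidueField z ≫ p.left) (by
            apply pullback.hom_ext
            · simp [pq]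
            · simpa [pq] using hl.symm)
        refine ⟨l (IsLocalRing.closedPoint _), ?_⟩
        show pullback.fst pq (pullback.diagonal f) (l (IsLocalRing.closedPoint _)) = z
        rw [← Scheme.Hom.comp_apply, pullback.lift_fst, Scheme.fromSpecResidueField_apply]
    have hsh' : (Presieve.ofArrows W' π').IsSheafFor (G.obj ⋙ forget AddCommGrpCat.{u + 1}) := by
      rw [Presieve.isSheafFor_iff_generate]
      exact ((isSheaf_iff_isSheaf_of_type _ _).1
        (GrothendieckTopology.HasSheafCompose.isSheaf G.obj G.property)) _ hmem'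
    refine hsh'.isSeparatedFor.ext fun V g hg => ?_
    cases hg with
    | mk k =>
      show G.obj.map (π' k).op (G.obj.map p.op t) = G.obj.map (π' k).op (G.obj.map q.op t)
      rw [← ConcreteCategory.comp_apply, ← ConcreteCategory.comp_apply, ← Functor.map_comp, ← Functor.map_comp,
        ← op_comp, ← op_comp]
      cases k
      · have h : e ≫ p = e ≫ q := MorphismProperty.Over.Hom.ext (by
          show pullback.fst pq (pullback.diagonal f) ≫ p.left = pullback.fst pq (pullback.diagonal f) ≫ q.left
          have h1 := congrArg (fun t => t ≫ pullback.fst f f) (pullback.condition (f := pq) (g := pullback.diagonal f))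
          have h2 := congrArg (fun t => t ≫ pullback.snd f f) (pullback.condition (f := pq) (g := pullback.diagonal f))
          simp [pq] at h1 h2
          exact h1.trans h2.symm)
        show G.obj.map (e ≫ p).op t = G.obj.map (e ≫ q).op t
        rw [h]
      · have hr : Set.range ((EtShriek.compEtale j).obj ((EtCoh.bc j).obj Z)).hom.base ⊆ Set.range j.base := by
          rintro _ ⟨v, rfl⟩
          exact ⟨_, rfl⟩
        exact (hkill _ hr).trans (hkill _ hr).symm
  obtain ⟨g, hg, hg'⟩ := (Presieve.isSheafFor_arrows_iff _ _).1 hsh x (fun k l Z p q e => by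
    cases k <;> cases l
    · exact hPP p q
    · show G.obj.map p.op t = G.obj.map q.op (0 : ToType (G.obj.obj (op (aObj j))))
      rw [map_zero (G.obj.map q.op).hom]
      refine hkill p ?_
      rw [← MorphismProperty.Over.w q]
      rintro _ ⟨z, rfl⟩
      exact ⟨_, rfl⟩
    · show G.obj.map p.op (0 : ToType (G.obj.obj (op (aObj j)))) = G.obj.map q.op t
      rw [map_zero (G.obj.map p.op).hom]
      refine (hkill q ?_).symm
      rw [← MorphismProperty.Over.w p]
      rintro _ ⟨z, rfl⟩
      exact ⟨_, rfl⟩
    · show G.obj.map p.op (0 : ToType (G.obj.obj (op (aObj j)))) = G.obj.map q.op 0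
      rw [map_zero (G.obj.map p.op).hom, map_zero (G.obj.map q.op).hom])
  refine ⟨g, ⟨hg true, hg false⟩, fun g' hg'' => hg' g' fun k => ?_⟩
  cases k
  · exact hg''.2
  · exact hg''.1

end

end EtLocCohLib
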