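import Groth.Agent.EtLocCohLib.ExcisionIso
import Groth.Agent.EtLocCohLib.EdgeOut

/-!
# Cohomology with supports of a triple
-/

set_option autoImplicit false
set_option linter.unusedSectionVars false
set_option linter.style.haveILetI false
set_option backward.isDefEq.respectTransparency false
set_option backward.isDefEq.respectTransparency.types false
set_option synthInstance.maxHeartbeats 400000
set_option maxHeartbeats 1000000

universe u

open CategoryTheory CategoryTheory.Limits AlgebraicGeometry Opposite
open Groth.Agent.EtShLib EtSliceLib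

namespace EtLocCohLib

noncomputable section

theorem isZero_HY_of_depthGE {X U : Scheme.{u}} (j : U ⟶ X) [IsOpenImmersion j] (F : EtCoh.Ab X) {n p : ℕ}
    (h : EtDepth.DepthGE j F n) (hp : p < n) : IsZero ((EtDual.HY j p).obj F) := by
  haveI : PreservesFiniteLimits (glob X) := comp_preservesFiniteLimits _ _
  haveI : (glob X).Additive := ⟨fun {_ _ _ _} => rfl⟩
  haveI := isIso_edgeOut j (glob X) F p fun q hq => h q (hq.trans hp)
  exact (Functor.map_isZero (glob X) (h p hp)).of_iso (asIso (RDer.edgeOut (EtDual.secSupp j) (glob X) p F))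

variable {X X' U : Scheme.{u}} (k' : X' ⟶ X) [IsOpenImmersion k'] (j : U ⟶ X) [IsOpenImmersion j]
  (j' : U ⟶ X') [IsOpenImmersion j'] (hfac : j' ≫ k' = j)

include hfac in
theorem range_j' : Set.range j'.base = k'.base ⁻¹' Set.range j.base := by
  subst hfac
  ext x
  constructor
  · rintro ⟨u, rfl⟩
    exact ⟨u, rfl⟩
  · rintro ⟨u, hu⟩
    exact ⟨u, k'.isOpenEmbedding.injective hu⟩

include hfac in
theorem range_subset : Set.range j.base ⊆ Set.range k'.base := by
  subst hfac
  rintro _ ⟨u, rfl⟩
  exact ⟨j'.base u, rfl⟩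

theorem range_pTop : Set.range (pTop k').left.base = Set.range k'.base := rfl

instance : IsOpenImmersion (pTop k').left := inferInstanceAs (IsOpenImmersion k')

include hfac in
theorem supp_cond (G : EtCoh.Ab X) : suppι k' G ≫ (glob X).map (EtDual.unitApp j G) = 0 := by
  ext a
  refine (unitApp_app_eq_zero_iff j G _ _).2 (map_eq_zero_of_range k' (suppι_zero k' G a) _ ?_)
  rintro _ ⟨z, rfl⟩
  exact range_subset k' j j' hfac ⟨_, rfl⟩

/-- Sections with smaller support. -/
def suppIncl (G : EtCoh.Ab X) : (EtDual.gammaSupp k').obj G ⟶ (EtDual.gammaSupp j).obj G :=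
  (KernelFork.IsLimit.lift' (KernelFork.mapIsLimit _ (kernelIsKernel (EtDual.unitApp j G)) (glob X))
    (suppι k' G) (supp_cond k' j j' hfac G)).1

theorem suppIncl_ι (G : EtCoh.Ab X) : suppIncl k' j j' hfac G ≫ suppι j G = suppι k' G :=
  (KernelFork.IsLimit.lift' (KernelFork.mapIsLimit _ (kernelIsKernel (EtDual.unitApp j G)) (glob X))
    (suppι k' G) (supp_cond k' j j' hfac G)).2

theorem suppIncl_natural {G G' : EtCoh.Ab X} (φ : G ⟶ G') :
    (EtDual.gammaSupp k').map φ ≫ suppIncl k' j j' hfac G' =
      suppIncl k' j j' hfac G ≫ (EtDual.gammaSupp j).map φ := by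
  apply (cancel_mono (suppι j G')).1
  rw [Category.assoc, Category.assoc, suppIncl_ι, suppι_natural, suppι_natural]
  exact ((Category.assoc _ _ _).symm.trans (congrArg (· ≫ (glob X).map φ) (suppIncl_ι k' j j' hfac G))).symm

theorem excMap_natural {G G' : EtCoh.Ab X} (φ : G ⟶ G') (hU' : Set.range j'.base = k'.base ⁻¹' Set.range j.base) :
    (EtDual.gammaSupp j).map φ ≫ excMap k' j j' G' hU' =
      excMap k' j j' G hU' ≫ (EtDual.gammaSupp j').map ((EtCoh.pull k').map φ) := by
  apply (cancel_mono (suppι j' ((EtCoh.pull k').obj G'))).1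
  rw [Category.assoc, Category.assoc, excMap_ι, suppι_natural]
  refine ((Category.assoc _ _ _).symm.trans (congrArg (fun t => t ≫ (globRes k').app G') (suppι_natural j G φ))).trans ?_
  refine Eq.trans ?_ ((congrArg (fun t => t ≫ (glob X').map ((EtCoh.pull k').map φ))
    (excMap_ι k' j j' G hU').symm).trans (Category.assoc _ _ _))
  rw [Category.assoc, Category.assoc]
  exact congrArg (fun t => suppι j G ≫ t) ((globRes k').naturality φ)

theorem globRes_injective_iff (G : EtCoh.Ab X) (s : ToType (G.obj.obj (op (EtCoh.top X)))) :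
    (globRes k').app G s = 0 ↔ G.obj.map (pTop k').op s = 0 := by
  haveI := jCont k'
  haveI : IsIso (restrTheta k') := isIso_restrTheta k'
  haveI : IsIso (((restrTheta k').app G).hom.app (op (EtCoh.top X'))) :=
    inferInstanceAs (IsIso (((sheafToPresheaf _ _).map ((restrTheta k').app G)).app (op (EtCoh.top X'))))
  let θ := ((restrTheta k').app G).hom.app (op (EtCoh.top X'))
  have hres : θ ((globRes k').app G s) = G.obj.map (pTop k').op s := by
    have h := map_globRes k' G s (EtCoh.top X') (𝟙 _)
    simpa [θ] using h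
  rw [← hres]
  exact ⟨fun h => by rw [h]; exact map_zero θ.hom,
    fun h => (ConcreteCategory.bijective_of_isIso θ).1 (h.trans (map_zero θ.hom).symm)⟩

theorem exact_supp (G : EtCoh.Ab X) (hU' : Set.range j'.base = k'.base ⁻¹' Set.range j.base)
    (h0 : suppIncl k' j j' hfac G ≫ excMap k' j j' G hU' = 0) :
    (ShortComplex.mk _ _ h0).Exact := by
  rw [ShortComplex.ab_exact_iff]
  intro a ha
  have h1 : (globRes k').app G (suppι j G a) = 0 :=
    (congrArg (fun t => t a) (excMap_ι k' j j' G hU')).symm.trans
      ((congrArg (suppι j' _) ha).trans (map_zero (suppι j' ((EtCoh.pull k').obj G)).hom))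
  rw [globRes_injective_iff] at h1
  obtain ⟨b, hb⟩ := exists_suppι_eq k' G (suppι j G a) (map_eq_zero_of_range_pTop k' h1)
  refine ⟨b, (AddCommGrpCat.mono_iff_injective (suppι j G)).1 inferInstance ?_⟩
  exact (congrArg (fun t => t b) (suppIncl_ι k' j j' hfac G)).trans hb
where
  map_eq_zero_of_range_pTop {G : EtCoh.Ab X} (k' : X' ⟶ X) [IsOpenImmersion k']
      {s : ToType (G.obj.obj (op (EtCoh.top X)))} (h : G.obj.map (pTop k').op s = 0) :
      G.obj.map (iU k' (EtCoh.top X)).op s = 0 := by
    have hr : Set.range (iU k' (EtCoh.top X)).left.base ⊆ Set.range (pTop k').left.base := by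
      rw [range_aObj]; exact subset_of_eq (range_pTop k').symm
    let r : _ ⟶ pObj k' := MorphismProperty.Over.homMk
      (IsOpenImmersion.lift (pTop k').left (iU k' (EtCoh.top X)).left hr) (by
        rw [← MorphismProperty.Over.w (pTop k'), IsOpenImmersion.lift_fac_assoc]
        exact MorphismProperty.Over.w _)
    rw [top_hom_ext (iU k' (EtCoh.top X)) (r ≫ pTop k'), op_comp, Functor.map_comp, ConcreteCategory.comp_apply, h]
    exact map_zero (G.obj.map r.op).hom

include hfac in
theorem comp_excMap (G : EtCoh.Ab X) (hU' : Set.range j'.base = k'.base ⁻¹' Set.range j.base) :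
    suppIncl k' j j' hfac G ≫ excMap k' j j' G hU' = 0 := by
  apply (cancel_mono (suppι j' ((EtCoh.pull k').obj G))).1
  rw [Category.assoc, excMap_ι, ← Category.assoc, suppIncl_ι, zero_comp]
  ext a
  show (globRes k').app G (suppι k' G a) = 0
  rw [globRes_injective_iff]
  refine map_eq_zero_of_range k' (suppι_zero k' G a) _ ?_
  exact subset_of_eq (range_pTop k')

include hfac in
theorem surjective_excMap (I : EtCoh.Ab X) [Injective I] (hU' : Set.range j'.base = k'.base ⁻¹' Set.range j.base) :
    Function.Surjective (excMap k' j j' I hU') := by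
  intro c
  haveI := jCont k'
  haveI : IsIso (restrTheta k') := isIso_restrTheta k'
  let θ := ((restrTheta k').app I).hom.app (op (EtCoh.top X'))
  haveI : IsIso θ :=
    inferInstanceAs (IsIso (((sheafToPresheaf _ _).map ((restrTheta k').app I)).app (op (EtCoh.top X'))))
  let y : ToType (I.obj.obj (op (pObj k'))) := θ (suppι j' _ c)
  haveI : Mono (pTop k').left := inferInstance
  haveI := mono_freeMap (pTop k')
  let s := (Injective.factorThru (desc _ y) (freeMap (pTop k'))).hom.app (op (EtCoh.top X)) (gen (EtCoh.top X))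
  have hs : I.obj.map (pTop k').op s = y := by
    show I.obj.map (pTop k').op
      ((Injective.factorThru (desc _ y) (freeMap (pTop k'))).hom.app (op (EtCoh.top X)) (gen (EtCoh.top X))) = y
    rw [← freeMap_app, Injective.comp_factorThru, desc_gen]
  have hsj : I.obj.map (iU j (EtCoh.top X)).op s = 0 := by
    have h2 : I.obj.map ((EtShriek.compEtale k').map (iU j' (EtCoh.top X'))).op y = 0 := by
      refine ((NatTrans.naturality_apply ((restrTheta k').app I).hom (iU j' (EtCoh.top X')).op
        (suppι j' _ c)).symm.trans ?_ :)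
      rw [suppι_zero]
      exact map_zero (((restrTheta k').app I).hom.app _).hom
    rw [← hs, ← ConcreteCategory.comp_apply, ← Functor.map_comp, ← op_comp] at h2
    have hr : Set.range (iU j (EtCoh.top X)).left.base ⊆
        Set.range ((EtShriek.compEtale k').map (iU j' (EtCoh.top X')) ≫ pTop k').left.base := by
      rw [range_aObj]
      rintro _ ⟨u, rfl⟩
      obtain ⟨z, hz⟩ := (range_aObj j').ge ⟨u, rfl⟩
      refine ⟨z, ?_⟩
      show k'.base ((iU j' (EtCoh.top X')).left.base z) = _
      rw [hz, ← hfac]
      rfl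
    haveI : IsOpenImmersion ((EtShriek.compEtale k').map (iU j' (EtCoh.top X')) ≫ pTop k').left :=
      inferInstanceAs (IsOpenImmersion ((iU j' (EtCoh.top X')).left ≫ k'))
    let r : _ ⟶ _ := MorphismProperty.Over.homMk (P := EtCoh.etaleMP) (Q := ⊤) (A := (aObj j))
      (B := (EtShriek.compEtale k').obj ((EtShriek.compEtale j').obj ((EtCoh.bc j').obj (EtCoh.top X'))))
      (IsOpenImmersion.lift _ (iU j (EtCoh.top X)).left hr) (by
        rw [← MorphismProperty.Over.w ((EtShriek.compEtale k').map (iU j' (EtCoh.top X')) ≫ pTop k'),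
          IsOpenImmersion.lift_fac_assoc]
        exact MorphismProperty.Over.w _)
    rw [top_hom_ext (iU j (EtCoh.top X)) (r ≫ (EtShriek.compEtale k').map (iU j' (EtCoh.top X')) ≫ pTop k'), op_comp,
      Functor.map_comp, ConcreteCategory.comp_apply, h2]
    exact map_zero (I.obj.map r.op).hom
  obtain ⟨a, ha⟩ := exists_suppι_eq j I s hsj
  refine ⟨a, (AddCommGrpCat.mono_iff_injective (suppι j' ((EtCoh.pull k').obj I))).1 inferInstance
    ((ConcreteCategory.bijective_of_isIso θ).1 ?_)⟩
  have h := map_globRes k' I (suppι j I a) (EtCoh.top X') (𝟙 _)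
  simp only [op_id, CategoryTheory.Functor.map_id, ConcreteCategory.id_apply] at h
  refine ((congrArg θ (congrArg (fun t => t a) (excMap_ι k' j j' I hU'))).trans h).trans ?_
  rw [ha]
  exact hs

include hfac in
theorem nonempty_HY_iso_of_depth (F : EtCoh.Ab X) (r : ℕ) (h : EtDepth.DepthGE k' F (r + 2)) :
    Nonempty ((EtDual.HY j r).obj F ≅ (EtDual.HY j' r).obj ((EtCoh.pull k').obj F)) := by
  obtain ⟨⟨R⟩⟩ := HasInjectiveResolutions.out (C := EtCoh.Ab X) F
  haveI : PreservesFiniteColimits (EtCoh.pull k') :=
    haveI : PreservesColimitsOfSize.{0, 0} (EtCoh.pull k') := (EtCoh.pullPushAdj k').leftAdjoint_preservesColimits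
    PreservesColimitsOfSize.preservesFiniteColimits _
  let R' : InjectiveResolution ((EtCoh.pull k').obj F) :=
    { cocomplex := ((EtCoh.pull k').mapHomologicalComplex _).obj R.cocomplex
      injective := fun n => injective_pull (Scheme.Etale.mk k') (R.cocomplex.X n)
      ι := (HomologicalComplex.singleMapHomologicalComplex _ _ _).inv.app _ ≫
        ((EtCoh.pull k').mapHomologicalComplex _).map R.ι
      quasiIso := inferInstance }
  have hU' := range_j' k' j j' hfac
  let S : ShortComplex (CochainComplex AddCommGrpCat.{u + 1} ℕ) := ShortComplex.mk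
    (X₁ := ((EtDual.gammaSupp k').mapHomologicalComplex (ComplexShape.up ℕ)).obj R.cocomplex)
    (X₂ := ((EtDual.gammaSupp j).mapHomologicalComplex (ComplexShape.up ℕ)).obj R.cocomplex)
    (X₃ := ((EtDual.gammaSupp j').mapHomologicalComplex (ComplexShape.up ℕ)).obj R'.cocomplex)
    { f := fun n => suppIncl k' j j' hfac (R.cocomplex.X n)
      comm' := fun n m _ => (suppIncl_natural k' j j' hfac (R.cocomplex.d n m)).symm }
    { f := fun n => excMap k' j j' (R.cocomplex.X n) hU'
      comm' := fun n m _ => (excMap_natural k' j j' (R.cocomplex.d n m) hU').symm }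
    (HomologicalComplex.hom_ext _ _ fun n => comp_excMap k' j j' hfac _ hU')
  have hS : S.ShortExact := HomologicalComplex.shortExact_of_degreewise_shortExact _ fun n =>
    { exact := exact_supp k' j j' hfac (R.cocomplex.X n) hU' _
      mono_f := by
        show Mono (suppIncl k' j j' hfac (R.cocomplex.X n))
        haveI : Mono (suppIncl k' j j' hfac (R.cocomplex.X n) ≫ suppι j (R.cocomplex.X n)) := by
          rw [suppIncl_ι]; infer_instance
        exact mono_of_mono _ (suppι j (R.cocomplex.X n))
      epi_g := (AddCommGrpCat.epi_iff_surjective _).2 (surjective_excMap k' j j' hfac (R.cocomplex.X n) hU') }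
  have hz : ∀ p, p < r + 2 → IsZero (S.X₁.homology p) := fun p hp =>
    (isZero_HY_of_depthGE k' F h hp).of_iso (R.isoRightDerivedObj (EtDual.gammaSupp k') p).symm
  haveI : Mono (HomologicalComplex.homologyMap S.g r) :=
    (hS.homology_exact₂ r).mono_g ((hz r (by omega)).eq_of_src _ _)
  haveI : Epi (HomologicalComplex.homologyMap S.g r) :=
    (hS.homology_exact₃ r (r + 1) rfl).epi_f ((hz (r + 1) (by omega)).eq_of_tgt _ _)
  haveI : IsIso (HomologicalComplex.homologyMap S.g r) := isIso_of_mono_of_epi _
  exact ⟨R.isoRightDerivedObj (EtDual.gammaSupp j) r ≪≫ asIso (HomologicalComplex.homologyMap S.g r) ≪≫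
    (R'.isoRightDerivedObj (EtDual.gammaSupp j') r).symm⟩

end

end EtLocCohLib
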